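import Cfsg.Agent.Lib.Char.OneNonlinear.Layers
import Mathlib.GroupTheory.Abelianization.Defs
import Mathlib.GroupTheory.Nilpotent
import Mathlib.Algebra.Module.ZMod
import Mathlib.Data.Nat.Choose.Dvd

/-!
# A Camina `p`-group with a transitive operator on the abelianization

Such a group has class at most two and exponent dividing `p²`, exponent `p` for odd `p`.
-/

set_option autoImplicit false
set_option linter.all false
set_option maxHeartbeats 400000

namespace CfsgLib.OneNonlinear.Camina

open Subgroup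
open scoped commutatorElement IsMulCommutative

variable {P : Type*} [Group P] [Finite P]

/-- The hypotheses. -/
structure Hyp (P : Type*) [Group P] (p : ℕ) (α : P ≃* P) : Prop where
  onto : ∀ x, x ∉ commutator P → ∀ r ∈ commutator P, ∃ y, ⁅x, y⁆ = r
  pow_mem : ∀ x : P, x ^ p ∈ commutator P
  trans : ∀ x y, x ∉ commutator P → y ∉ commutator P →
    ∃ k : ℕ, ((⇑α)^[k] x)⁻¹ * y ∈ commutator P

variable {p : ℕ} {α : P ≃* P}

theorem card_centralizer_le (h : Hyp P p α) {x : P} (hx : x ∉ commutator P) :
    Nat.card (centralizer ({x} : Set P)) ≤ (commutator P).index := by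
  set C := centralizer ({x} : Set P)
  have hsurj : Function.Surjective fun q : P ⧸ C =>
      (⟨⁅q.out, x⁆, Subgroup.commutator_mem_commutator (mem_top _) (mem_top _)⟩ : commutator P) := by
    rintro ⟨r, hr⟩
    obtain ⟨y, hy⟩ := h.onto x hx r⁻¹ (inv_mem hr)
    refine ⟨(y : P ⧸ C), Subtype.ext ?_⟩
    obtain ⟨c, hc⟩ := QuotientGroup.mk_out_eq_mul C y
    show ⁅(QuotientGroup.mk y : P ⧸ C).out, x⁆ = r
    have hcx : (c : P) * x = x * c := mem_centralizer_singleton_iff.mp c.2
    calc ⁅(QuotientGroup.mk y : P ⧸ C).out, x⁆ = y * ((c : P) * x) * (c : P)⁻¹ * y⁻¹ * x⁻¹ := by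
          rw [hc, commutatorElement_def]; group
      _ = ⁅x, y⁆⁻¹ := by rw [hcx, commutatorElement_def]; group
      _ = r := by rw [hy, inv_inv]
  have h1 := Nat.card_le_card_of_surjective _ hsurj
  rw [← Subgroup.index_eq_card] at h1
  have h2 := C.card_mul_index
  rw [← (commutator P).card_mul_index] at h2
  have h3 : 0 < Nat.card (commutator P) := Nat.card_pos
  nlinarith

/-- A central subgroup of the derived subgroup is smaller than the abelianization. -/
theorem card_central_lt (h : Hyp P p α) {x : P} (hx : x ∉ commutator P) {N : Subgroup P}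
    (hN : N ≤ commutator P) (hNc : N ≤ center P) : Nat.card N < (commutator P).index := by
  refine lt_of_lt_of_le ?_ (card_centralizer_le h hx)
  have hle : N ≤ centralizer ({x} : Set P) := fun n hn =>
    mem_centralizer_singleton_iff.mpr (mem_center_iff.mp (hNc hn) x).symm
  refine lt_of_le_of_ne (Nat.le_of_dvd Nat.card_pos (Subgroup.card_dvd_of_le hle)) fun he => hx ?_
  refine hN ?_
  rw [Subgroup.eq_of_le_of_card_ge hle he.ge]
  exact mem_centralizer_singleton_iff.mpr rfl

theorem map_mem_commutator (α : P ≃* P) {x : P} (hx : x ∈ commutator P) : α x ∈ commutator P :=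
  (map_commutator_eq_of_surjective α.toMonoidHom α.surjective).le (mem_map_of_mem _ hx) 
where
  map_commutator_eq_of_surjective (f : P →* P) (hf : Function.Surjective f) :
      (commutator P).map f = commutator P := by
    rw [_root_.commutator_def, Subgroup.map_commutator, Subgroup.map_top_of_surjective f hf]

variable [hp : Fact p.Prime]

include hp in
/-- A homomorphism as a linear map over `ZMod p`. -/
def toLin₁ {A C : Type*} [CommGroup A] [CommGroup C]
    [Module (ZMod p) (Additive A)] [Module (ZMod p) (Additive C)]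
    (f : A →* C) : Additive A →ₗ[ZMod p] Additive C :=
  f.toAdditive.toZModLinearMap p

include hp in
/-- A biadditive map in multiplicative notation, as a bilinear map over `ZMod p`. -/
def toLin₂ {A B C : Type*} [CommGroup A] [CommGroup B] [CommGroup C]
    [Module (ZMod p) (Additive A)] [Module (ZMod p) (Additive B)] [Module (ZMod p) (Additive C)]
    (f : A →* B →* C) : Additive A →ₗ[ZMod p] Additive B →ₗ[ZMod p] Additive C :=
  AddMonoidHom.toZModLinearMap p
    { toFun := fun v => (f v.toMul).toAdditive.toZModLinearMap p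
      map_zero' := LinearMap.ext fun w => by
        show Additive.ofMul (f 1 w.toMul) = Additive.ofMul 1
        rw [map_one, MonoidHom.one_apply]
      map_add' := fun v v' => LinearMap.ext fun w => by
        show Additive.ofMul (f (v.toMul * v'.toMul) w.toMul) =
          Additive.ofMul (f v.toMul w.toMul * f v'.toMul w.toMul)
        rw [map_mul, MonoidHom.mul_apply] }


/-- The inductive step: the class is at most two if it is at most three. -/
theorem step (h : Hyp P p α) {x₀ : P} (hx₀ : x₀ ∉ commutator P)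
    (h4 : ⁅⁅commutator P, (⊤ : Subgroup P)⁆, (⊤ : Subgroup P)⁆ = ⊥) :
    ⁅commutator P, (⊤ : Subgroup P)⁆ = ⊥ := by
  classical
  set R := commutator P with hR
  set W : Subgroup P := ⁅R, (⊤ : Subgroup P)⁆ with hW
  have hWR : W ≤ R := Subgroup.commutator_le_left R ⊤
  have hWc : W ≤ center P := by
    intro w hw
    rw [mem_center_iff]
    intro y
    have h1 : ⁅w, y⁆ ∈ ⁅W, (⊤ : Subgroup P)⁆ := commutator_mem_commutator hw (mem_top _)
    rw [h4, mem_bot, commutatorElement_eq_one_iff_mul_comm] at h1
    exact h1.symm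
  have hRR : ⁅R, R⁆ = ⊥ := by
    have h1 : ⁅⁅(⊤ : Subgroup P), (⊤ : Subgroup P)⁆, R⁆ = ⊥ := by
      refine Subgroup.commutator_commutator_eq_bot_of_rotate ?_ ?_
      · rw [Subgroup.commutator_comm (⊤ : Subgroup P) R]; exact h4
      · exact h4
    rwa [← _root_.commutator_def] at h1
  haveI hRcomm : IsMulCommutative R := ⟨⟨fun a b => Subtype.ext (by
    have h1 : ⁅(a : P), (b : P)⁆ ∈ ⁅R, R⁆ := commutator_mem_commutator a.2 b.2
    rwa [hRR, mem_bot, commutatorElement_eq_one_iff_mul_comm] at h1)⟩⟩
  haveI hWcomm : IsMulCommutative W := ⟨⟨fun a b => Subtype.ext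
    (mem_center_iff.mp (hWc a.2) b).symm⟩⟩
  set W' : Subgroup R := W.subgroupOf R with hW'
  have hmemR : ∀ x y : P, ⁅x, y⁆ ∈ R := fun x y =>
    commutator_mem_commutator (mem_top _) (mem_top _)
  have hmemW : ∀ (x : P) {r : P}, r ∈ R → ⁅x, r⁆ ∈ W := fun x r hr => by
    rw [hW, Subgroup.commutator_comm]
    exact commutator_mem_commutator (mem_top _) hr
  -- pairing into `R / W`
  let f1 : P → P →* R ⧸ W' := fun x => MonoidHom.mk' (fun y => QuotientGroup.mk ⟨⁅x, y⁆, hmemR x y⟩)
    (fun y z => by
      rw [← QuotientGroup.mk_mul, QuotientGroup.eq, mem_subgroupOf]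
      show ⁅x, y * z⁆⁻¹ * (⁅x, y⁆ * ⁅x, z⁆) ∈ W
      have he : ⁅x, y * z⁆⁻¹ * (⁅x, y⁆ * ⁅x, z⁆) = ⁅y, ⁅x, z⁆⁻¹⁆ := by
        simp only [commutatorElement_def]; group
      rw [he]
      exact hmemW y (inv_mem (hmemR x z)))
  have hf1mul : ∀ x x' y, f1 (x * x') y = f1 x y * f1 x' y := fun x x' y => by
    show QuotientGroup.mk _ = QuotientGroup.mk _ * QuotientGroup.mk _
    rw [mul_comm, ← QuotientGroup.mk_mul, QuotientGroup.eq, mem_subgroupOf]
    show ⁅x * x', y⁆⁻¹ * (⁅x', y⁆ * ⁅x, y⁆) ∈ W
    have he : ⁅x * x', y⁆⁻¹ * (⁅x', y⁆ * ⁅x, y⁆) = ⁅x, y⁆⁻¹ * ⁅x, ⁅x', y⁆⁻¹⁆ * ⁅x, y⁆ := by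
      simp only [commutatorElement_def]; group
    rw [he]
    have hc := mem_center_iff.mp (hWc (hmemW x (inv_mem (hmemR x' y)))) (⁅x, y⁆⁻¹)
    rw [hc, inv_mul_cancel_right]
    exact hmemW x (inv_mem (hmemR x' y))
  let f2 : P →* Abelianization P →* R ⧸ W' := MonoidHom.mk' (fun x => Abelianization.lift (f1 x))
    (fun x x' => Abelianization.hom_ext _ _ (MonoidHom.ext fun y => by simp [hf1mul]))
  let B0 : Abelianization P →* Abelianization P →* R ⧸ W' := Abelianization.lift f2
  have hB0 : ∀ x y : P, B0 (Abelianization.of x) (Abelianization.of y) =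
      QuotientGroup.mk ⟨⁅x, y⁆, hmemR x y⟩ := fun x y => by simp [B0, f2, f1]
  -- pairing into `W`
  let g1 : P → R →* W := fun x => MonoidHom.mk' (fun r => ⟨⁅x, (r : P)⁆, hmemW x r.2⟩) fun r s => by
    refine Subtype.ext ?_
    show ⁅x, (r : P) * s⁆ = ⁅x, (r : P)⁆ * ⁅x, (s : P)⁆
    have he : ⁅x, (r : P) * s⁆ = ⁅x, (r : P)⁆ * ((r : P) * ⁅x, (s : P)⁆ * (r : P)⁻¹) := by
      simp only [commutatorElement_def]; group
    rw [he, mem_center_iff.mp (hWc (hmemW x s.2)) r, mul_inv_cancel_right]
  have hg1 : ∀ x, W' ≤ (g1 x).ker := fun x w hw => by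
    rw [MonoidHom.mem_ker]
    refine Subtype.ext ?_
    show ⁅x, (w : P)⁆ = 1
    rw [commutatorElement_eq_one_iff_mul_comm]
    exact mem_center_iff.mp (hWc (mem_subgroupOf.mp hw)) x
  have hg1mul : ∀ x x' (r : R), g1 (x * x') r = g1 x r * g1 x' r := fun x x' r => by
    refine Subtype.ext ?_
    show ⁅x * x', (r : P)⁆ = ⁅x, (r : P)⁆ * ⁅x', (r : P)⁆
    have he : ⁅x * x', (r : P)⁆ = x * ⁅x', (r : P)⁆ * x⁻¹ * ⁅x, (r : P)⁆ := by
      simp only [commutatorElement_def]; group
    rw [he, mem_center_iff.mp (hWc (hmemW x' r.2)) x, mul_inv_cancel_right,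
      mem_center_iff.mp (hWc (hmemW x r.2)) _]
  let g2 : P →* (R ⧸ W') →* W := MonoidHom.mk' (fun x => QuotientGroup.lift W' (g1 x) (hg1 x))
    (fun x x' => QuotientGroup.monoidHom_ext _ (MonoidHom.ext fun r => by simp [hg1mul]))
  let T0 : Abelianization P →* (R ⧸ W') →* W := Abelianization.lift g2
  have hT0 : ∀ (x : P) (r : R), T0 (Abelianization.of x) (QuotientGroup.mk r) =
      ⟨⁅x, (r : P)⁆, hmemW x r.2⟩ := fun x r => by simp [T0, g2, g1]
  have hof : ∀ x, Abelianization.of x = 1 ↔ x ∈ R := fun x => by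
    rw [← MonoidHom.mem_ker, Abelianization.ker_of]
  have hVp : ∀ v : Abelianization P, v ^ p = 1 := fun v => by
    obtain ⟨x, rfl⟩ := QuotientGroup.mk_surjective v
    show (Abelianization.of x) ^ p = 1
    rw [← map_pow, hof]; exact h.pow_mem x
  have hZp : ∀ z : R ⧸ W', z ^ p = 1 := fun z => by
    obtain ⟨⟨r, hr⟩, rfl⟩ := QuotientGroup.mk_surjective z
    obtain ⟨y, rfl⟩ := h.onto x₀ hx₀ r hr
    rw [← hB0, ← map_pow, hVp, map_one]
  have hWp : ∀ w : W, w ^ p = 1 := by
    rintro ⟨w, hw⟩
    refine Subtype.ext ?_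
    show w ^ p = 1
    have hw' : w ∈ ⁅R, (⊤ : Subgroup P)⁆ := hw
    rw [Subgroup.commutator_def] at hw'
    induction hw' using Subgroup.closure_induction with
    | mem u hu =>
      obtain ⟨r, hr, y, -, rfl⟩ := hu
      have h1 : (T0 (Abelianization.of y) (QuotientGroup.mk ⟨r, hr⟩)) ^ p = 1 := by
        rw [← MonoidHom.pow_apply, ← map_pow, hVp, map_one, MonoidHom.one_apply]
      rw [hT0] at h1
      rw [← commutatorElement_inv y r, inv_pow,
        show ⁅y, r⁆ ^ p = 1 from congrArg Subtype.val h1, inv_one]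
    | one => rw [one_pow]
    | mul u v hu hv iu iv =>
      have hu' : u ∈ W := by rw [hW, Subgroup.commutator_def]; exact hu
      rw [(show Commute u v from (mem_center_iff.mp (hWc hu') v).symm).mul_pow,
        iu hu', iv (by rw [hW, Subgroup.commutator_def]; exact hv), one_mul]
    | inv u hu iu => rw [inv_pow, iu (by rw [hW, Subgroup.commutator_def]; exact hu), inv_one]
  haveI mV : Module (ZMod p) (Additive (Abelianization P)) :=
    AddCommGroup.zmodModule fun v => by
      apply Additive.toMul.injective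
      rw [toMul_nsmul, hVp]; rfl
  haveI mZ : Module (ZMod p) (Additive (R ⧸ W')) :=
    AddCommGroup.zmodModule fun v => by
      apply Additive.toMul.injective
      rw [toMul_nsmul, hZp]; rfl
  haveI mY : Module (ZMod p) (Additive W) :=
    AddCommGroup.zmodModule fun v => by
      apply Additive.toMul.injective
      rw [toMul_nsmul, hWp]; rfl
  -- the operators
  have hαW : ∀ w ∈ W, α w ∈ W := by
    intro w hw
    have h1 : W.map α.toMonoidHom = W := by
      rw [hW, Subgroup.map_commutator, Subgroup.map_top_of_surjective _ α.surjective,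
        map_mem_commutator.map_commutator_eq_of_surjective _ α.surjective]
    exact h1.le (mem_map_of_mem _ hw)
  let s0 : Abelianization P →* Abelianization P := Abelianization.map α.toMonoidHom
  let αR : R →* R := (α.toMonoidHom.comp R.subtype).codRestrict R fun r => map_mem_commutator α r.2
  let σ0 : R ⧸ W' →* R ⧸ W' := QuotientGroup.map W' W' αR fun w hw => hαW _ hw
  let ρ0 : W →* W := (α.toMonoidHom.comp W.subtype).codRestrict W fun w => hαW _ w.2
  let s : Module.End (ZMod p) (Additive (Abelianization P)) :=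
    toLin₁ s0
  let σ : Module.End (ZMod p) (Additive (R ⧸ W')) := toLin₁ σ0
  let ρ : Module.End (ZMod p) (Additive W) := toLin₁ ρ0
  let B := toLin₂ (p := p) B0
  let T := toLin₂ (p := p) T0
  haveI : Finite (Abelianization P) := inferInstanceAs (Finite (P ⧸ _root_.commutator P))
  haveI : Finite (Additive (Abelianization P)) := Finite.of_equiv _ Additive.ofMul
  haveI : Finite (Additive (R ⧸ W')) := Finite.of_equiv _ Additive.ofMul
  haveI : Finite (Additive W) := Finite.of_equiv _ Additive.ofMul
  have hsk : ∀ (k : ℕ) (x : P), (s ^ k) (Additive.ofMul (Abelianization.of x)) =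
      Additive.ofMul (Abelianization.of ((⇑α)^[k] x)) := by
    intro k
    induction k with
    | zero => intro x; rfl
    | succ k ih =>
      intro x
      rw [pow_succ', Module.End.mul_apply, ih, Function.iterate_succ_apply']
      rfl
  have hcardV : Nat.card (Additive (Abelianization P)) = R.index := rfl
  haveI : Nontrivial (Additive (Abelianization P)) :=
    ⟨⟨Additive.ofMul (Abelianization.of x₀), 0, fun he => hx₀ ((hof x₀).mp he)⟩⟩
  have hT0' : T = 0 := by
    refine Layers.no_layer s ?_ σ ρ B ?_ ?_ ?_ T ?_ ?_ ?_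
    · intro v w hv hw
      obtain ⟨x, rfl⟩ := QuotientGroup.mk_surjective (s := R) v
      obtain ⟨y, rfl⟩ := QuotientGroup.mk_surjective (s := R) w
      obtain ⟨k, hk⟩ := h.trans x y (fun hx => hv ((hof x).mpr hx)) (fun hy => hw ((hof y).mpr hy))
      refine ⟨k, (hsk k x).trans ?_⟩
      exact congrArg Additive.ofMul (QuotientGroup.eq.mpr hk)
    · intro a b
      obtain ⟨x, rfl⟩ := QuotientGroup.mk_surjective (s := R) a
      obtain ⟨y, rfl⟩ := QuotientGroup.mk_surjective (s := R) b
      show Additive.ofMul (B0 (Abelianization.of (α x)) (Abelianization.of (α y))) =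
        Additive.ofMul (σ0 (B0 (Abelianization.of x) (Abelianization.of y)))
      rw [hB0, hB0]
      refine congrArg Additive.ofMul (congrArg QuotientGroup.mk (Subtype.ext ?_))
      show ⁅α x, α y⁆ = α ⁅x, y⁆
      exact (map_commutatorElement α.toMonoidHom x y).symm
    · intro a ha z
      obtain ⟨x, rfl⟩ := QuotientGroup.mk_surjective (s := R) a
      obtain ⟨⟨r, hr⟩, rfl⟩ := QuotientGroup.mk_surjective (s := W') z
      obtain ⟨y, rfl⟩ := h.onto x (fun hx => ha ((hof x).mpr hx)) r hr
      exact ⟨Additive.ofMul (Abelianization.of y), congrArg Additive.ofMul (hB0 x y)⟩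
    · set v₀ : Additive (Abelianization P) := Additive.ofMul (Abelianization.of x₀) with hv₀
      have hsurj : Function.Surjective (B v₀) := by
        intro z
        obtain ⟨⟨r, hr⟩, rfl⟩ := QuotientGroup.mk_surjective (s := W') z
        obtain ⟨y, rfl⟩ := h.onto x₀ hx₀ r hr
        exact ⟨Additive.ofMul (Abelianization.of y), congrArg Additive.ofMul (hB0 x₀ y)⟩
      refine lt_of_le_of_ne (Nat.card_le_card_of_surjective _ hsurj) fun he => hx₀ ?_
      have hinj := ((Nat.bijective_iff_surjective_and_card (B v₀)).mpr ⟨hsurj, he.symm⟩).1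
      rw [← hof]
      have h0 : B v₀ v₀ = B v₀ 0 := by
        rw [map_zero]
        show Additive.ofMul (B0 (Abelianization.of x₀) (Abelianization.of x₀)) = Additive.ofMul 1
        rw [hB0]
        refine congrArg Additive.ofMul ((QuotientGroup.eq_one_iff _).mpr ?_)
        show ⁅x₀, x₀⁆ ∈ W
        rw [commutatorElement_self]
        exact one_mem _
      exact hinj h0
    · intro a z
      obtain ⟨x, rfl⟩ := QuotientGroup.mk_surjective (s := R) a
      obtain ⟨r, rfl⟩ := QuotientGroup.mk_surjective (s := W') z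
      show Additive.ofMul (T0 (Abelianization.of (α x)) (QuotientGroup.mk (αR r))) =
        Additive.ofMul (ρ0 (T0 (Abelianization.of x) (QuotientGroup.mk r)))
      rw [hT0, hT0]
      refine congrArg Additive.ofMul (Subtype.ext ?_)
      show ⁅α x, α r⁆ = α ⁅x, (r : P)⁆
      exact (map_commutatorElement α.toMonoidHom x r).symm
    · rw [hcardV]
      exact card_central_lt h hx₀ hWR hWc
    · intro a b hab
      obtain ⟨x, rfl⟩ := QuotientGroup.mk_surjective (s := R) a
      obtain ⟨y, rfl⟩ := QuotientGroup.mk_surjective (s := R) b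
      have h1 : (α x)⁻¹ * α y ∈ R := QuotientGroup.eq.mp (show
        (QuotientGroup.mk (α x) : P ⧸ R) = QuotientGroup.mk (α y) from hab)
      refine QuotientGroup.eq.mpr ?_
      have h2 := map_mem_commutator α.symm h1
      simpa using h2
  rw [eq_bot_iff, Subgroup.commutator_le]
  intro r hr y _
  rw [mem_bot, commutatorElement_eq_one_iff_mul_comm]
  have h1 := LinearMap.congr_fun (LinearMap.congr_fun hT0' (Additive.ofMul (Abelianization.of y)))
    (Additive.ofMul (QuotientGroup.mk (⟨r, hr⟩ : R)))
  have h2 : T0 (Abelianization.of y) (QuotientGroup.mk ⟨r, hr⟩) = 1 := h1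
  rw [hT0] at h2
  have h3 : ⁅y, r⁆ = 1 := congrArg Subtype.val h2
  rw [commutatorElement_eq_one_iff_mul_comm] at h3
  exact h3.symm

theorem class_two (h : Hyp P p α) (hP : IsPGroup p P) :
    ⁅commutator P, (⊤ : Subgroup P)⁆ = ⊥ := by
  classical
  haveI := hP.isNilpotent
  set W : Subgroup P := ⁅commutator P, (⊤ : Subgroup P)⁆ with hW
  set N : Subgroup P := ⁅W, (⊤ : Subgroup P)⁆ with hN
  have hNW : N ≤ W := Subgroup.commutator_le_left W ⊤
  have hWR : W ≤ commutator P := Subgroup.commutator_le_left _ _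
  suffices W ≤ N by
    obtain ⟨c, hc⟩ := Subgroup.nilpotent_iff_lowerCentralSeries.mp (inferInstance : Group.IsNilpotent P)
    have : ∀ k, W ≤ Subgroup.lowerCentralSeries (⊤ : Subgroup P) k := by
      intro k
      induction k with
      | zero => simp
      | succ k ih =>
        refine le_trans this ?_
        rw [hN, Subgroup.lowerCentralSeries_succ]
        exact Subgroup.commutator_mono ih le_rfl
    exact eq_bot_iff.mpr (hc ▸ this c)
  by_cases hall : ∀ x, x ∈ commutator P
  · rcases subsingleton_or_nontrivial P with hs | hs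
    · intro x _; rw [Subsingleton.elim x 1]; exact one_mem _
    · exact absurd (eq_top_iff.mpr fun x _ => hall x)
        (Group.IsSolvable.commutator_lt_top_of_nontrivial P).ne
  push Not at hall
  obtain ⟨x₀, hx₀⟩ := hall
  have hWm : W.map α.toMonoidHom = W := by
    rw [hW, Subgroup.map_commutator, Subgroup.map_top_of_surjective _ α.surjective,
      map_mem_commutator.map_commutator_eq_of_surjective _ α.surjective]
  have hNm : N.map α.toMonoidHom = N := by
    rw [hN, Subgroup.map_commutator, hWm, Subgroup.map_top_of_surjective _ α.surjective]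
  let β : P ⧸ N ≃* P ⧸ N := QuotientGroup.congr N N α hNm
  set π := QuotientGroup.mk' N
  have hπ : Function.Surjective π := QuotientGroup.mk'_surjective N
  have hcom : commutator (P ⧸ N) = (commutator P).map π := by
    simp only [_root_.commutator_def, Subgroup.map_commutator, Subgroup.map_top_of_surjective π hπ]
  have hmem : ∀ x, π x ∈ commutator (P ⧸ N) ↔ x ∈ commutator P := fun x => by
    rw [hcom, ← Subgroup.mem_comap, Subgroup.comap_map_eq_self]
    rw [QuotientGroup.ker_mk']
    exact hNW.trans hWR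
  have hβ : ∀ (k : ℕ) x, (⇑β)^[k] (π x) = π ((⇑α)^[k] x) := by
    intro k
    induction k with
    | zero => intro x; rfl
    | succ k ih =>
      intro x
      rw [Function.iterate_succ_apply', Function.iterate_succ_apply', ih]
      rfl
  have hq : Hyp (P ⧸ N) p β := by
    refine ⟨fun q hq r hr => ?_, fun q => ?_, fun q q' hq hq' => ?_⟩
    · obtain ⟨x, rfl⟩ := hπ q
      rw [hcom] at hr
      obtain ⟨r, hr, rfl⟩ := hr
      obtain ⟨y, hy⟩ := h.onto x (fun hx => hq ((hmem x).mpr hx)) r hr
      exact ⟨π y, by rw [← map_commutatorElement, hy]⟩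
    · obtain ⟨x, rfl⟩ := hπ q
      rw [← map_pow, hmem]
      exact h.pow_mem x
    · obtain ⟨x, rfl⟩ := hπ q
      obtain ⟨y, rfl⟩ := hπ q'
      obtain ⟨k, hk⟩ := h.trans x y (fun hx => hq ((hmem x).mpr hx)) (fun hy => hq' ((hmem y).mpr hy))
      refine ⟨k, ?_⟩
      rw [hβ, ← map_inv, ← map_mul, hmem]
      exact hk
  have h3 : ⁅commutator (P ⧸ N), (⊤ : Subgroup (P ⧸ N))⁆ = W.map π := by
    rw [hcom, ← Subgroup.map_top_of_surjective π hπ, ← Subgroup.map_commutator]
  have hst := step hq (fun hx => hx₀ ((hmem x₀).mp hx)) (by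
    rw [h3, ← Subgroup.map_top_of_surjective π hπ, ← Subgroup.map_commutator, ← hN,
      Subgroup.map_eq_bot_iff, QuotientGroup.ker_mk'])
  rw [h3, Subgroup.map_eq_bot_iff, QuotientGroup.ker_mk'] at hst
  exact hst

/-- The exponent. -/
theorem pow_eq_one (h : Hyp P p α) (hP : IsPGroup p P) (x : P) :
    x ^ p ^ 2 = 1 ∧ (p ≠ 2 → x ^ p = 1) := by
  classical
  haveI := hP.isNilpotent
  by_cases hall : ∀ x, x ∈ commutator P
  · rcases subsingleton_or_nontrivial P with hs | hs
    · exact ⟨Subsingleton.elim _ _, fun _ => Subsingleton.elim _ _⟩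
    · exact absurd (eq_top_iff.mpr fun x _ => hall x)
        (Group.IsSolvable.commutator_lt_top_of_nontrivial P).ne
  push Not at hall
  obtain ⟨x₀, hx₀⟩ := hall
  have h2 := class_two h hP
  set R := commutator P with hR
  have hc : R ≤ center P := by
    intro r hr
    rw [mem_center_iff]
    intro y
    have h1 : ⁅r, y⁆ ∈ ⁅R, (⊤ : Subgroup P)⁆ := commutator_mem_commutator hr (mem_top _)
    rw [h2, mem_bot, commutatorElement_eq_one_iff_mul_comm] at h1
    exact h1.symm
  have hmemR : ∀ x y : P, ⁅x, y⁆ ∈ R := fun x y =>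
    commutator_mem_commutator (mem_top _) (mem_top _)
  have hpow : ∀ (n : ℕ) (a b : P), ⁅a ^ n, b⁆ = ⁅a, b⁆ ^ n := by
    intro n a b
    induction n with
    | zero => simp
    | succ n ih =>
      rw [pow_succ, pow_succ', ← ih]
      have he : ⁅a ^ n * a, b⁆ = a ^ n * ⁅a, b⁆ * (a ^ n)⁻¹ * ⁅a ^ n, b⁆ := by
        simp only [commutatorElement_def]; group
      rw [he, mem_center_iff.mp (hc (hmemR a b)) (a ^ n), mul_inv_cancel_right]
  have hRp : ∀ r ∈ R, r ^ p = 1 := by
    intro r hr
    obtain ⟨y, rfl⟩ := h.onto x₀ hx₀ r hr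
    rw [← hpow, commutatorElement_eq_one_iff_mul_comm]
    exact (mem_center_iff.mp (hc (h.pow_mem x₀)) y).symm
  refine ⟨by rw [pow_two, pow_mul]; exact hRp _ (h.pow_mem x), fun hp2 => ?_⟩
  have hmul : ∀ a b : P, (a * b) ^ p = a ^ p * b ^ p := by
    intro a b
    set c := ⁅b, a⁆ with hc'
    have hcc : ∀ y, y * c = c * y := fun y => mem_center_iff.mp (hc (hmemR b a)) y
    have hyx : ∀ n : ℕ, b ^ n * a = c ^ n * (a * b ^ n) := by
      intro n
      calc b ^ n * a = ⁅b ^ n, a⁆ * (a * b ^ n) := by simp only [commutatorElement_def]; group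
        _ = _ := by rw [hpow]
    have hn : ∀ n : ℕ, (a * b) ^ n = c ^ n.choose 2 * (a ^ n * b ^ n) := by
      intro n
      induction n with
      | zero => simp
      | succ n ih =>
        have hcn : ∀ y, y * c ^ n = c ^ n * y := fun y =>
          (Commute.pow_right (show Commute y c from hcc y) n).eq
        calc (a * b) ^ (n + 1) = c ^ n.choose 2 * a ^ n * (b ^ n * a) * b := by
              rw [pow_succ, ih]; simp only [mul_assoc]
          _ = c ^ n.choose 2 * (a ^ n * c ^ n) * (a * b ^ n * b) := by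
              rw [hyx]; simp only [mul_assoc]
          _ = c ^ (n.choose 2 + n) * (a ^ (n + 1) * b ^ (n + 1)) := by
              rw [hcn, pow_add, pow_succ a, pow_succ b]; simp only [mul_assoc]
          _ = _ := by rw [Nat.choose_succ_succ, Nat.choose_one_right, add_comm]
    obtain ⟨j, hj⟩ := Nat.Prime.dvd_choose_self (p := p) (k := 2) hp.out (by omega)
      (lt_of_le_of_ne hp.out.two_le (Ne.symm hp2))
    rw [hn p, hj, pow_mul, hRp c (hmemR b a), one_pow, one_mul]
  haveI hRcomm : IsMulCommutative R := ⟨⟨fun a b => Subtype.ext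
    (mem_center_iff.mp (hc a.2) b).symm⟩⟩
  haveI : Finite (Abelianization P) := inferInstanceAs (Finite (P ⧸ _root_.commutator P))
  haveI : Finite (Additive (Abelianization P)) := Finite.of_equiv _ Additive.ofMul
  haveI : Finite (Additive R) := Finite.of_equiv _ Additive.ofMul
  let L0 : P →* R := MonoidHom.mk' (fun a => ⟨a ^ p, h.pow_mem a⟩) fun a b => Subtype.ext (hmul a b)
  haveI mV : Module (ZMod p) (Additive (Abelianization P)) :=
    AddCommGroup.zmodModule fun v => by
      obtain ⟨y, rfl⟩ := QuotientGroup.mk_surjective (s := R) v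
      apply Additive.toMul.injective
      exact (QuotientGroup.eq_one_iff _).mpr (h.pow_mem y)
  haveI mY : Module (ZMod p) (Additive R) :=
    AddCommGroup.zmodModule fun v => by
      apply Additive.toMul.injective
      rw [toMul_nsmul]
      exact Subtype.ext (hRp _ v.toMul.2)
  let L := toLin₁ (p := p) (Abelianization.lift L0)
  let αR : R →* R := (α.toMonoidHom.comp R.subtype).codRestrict R fun r => map_mem_commutator α r.2
  have hL := Layers.small_map_eq_zero (p := p) (⇑(Abelianization.map α.toMonoidHom).toAdditive) ?_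
    αR.toAdditive L ?_ ?_
  · exact congrArg Subtype.val (LinearMap.congr_fun hL (Additive.ofMul (Abelianization.of x)))
  · intro v w hv hw
    obtain ⟨a, rfl⟩ := QuotientGroup.mk_surjective (s := R) v
    obtain ⟨b, rfl⟩ := QuotientGroup.mk_surjective (s := R) w
    obtain ⟨k, hk⟩ := h.trans a b (fun ha => hv ((QuotientGroup.eq_one_iff a).mpr ha))
      (fun hb => hw ((QuotientGroup.eq_one_iff b).mpr hb))
    refine ⟨k, ?_⟩
    have hit : ∀ k, (⇑(Abelianization.map α.toMonoidHom).toAdditive)^[k]
        (Additive.ofMul (Abelianization.of a)) =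
        Additive.ofMul (Abelianization.of ((⇑α)^[k] a)) := by
      intro k
      induction k with
      | zero => rfl
      | succ k ih => rw [Function.iterate_succ_apply', Function.iterate_succ_apply', ih]; rfl
    exact (hit k).trans (congrArg Additive.ofMul (QuotientGroup.eq.mpr hk))
  · intro v
    obtain ⟨a, rfl⟩ := QuotientGroup.mk_surjective (s := R) v
    refine congrArg Additive.ofMul (Subtype.ext ?_)
    show α a ^ p = α (a ^ p)
    rw [map_pow]
  · exact card_central_lt h hx₀ le_rfl hc

end CfsgLib.OneNonlinear.Camina
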