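import Cfsg.Agent.Lib.CharDegree.Basic

/-!
# An element at which only one nonlinear character does not vanish: character theory
-/

set_option autoImplicit false
set_option linter.all false
set_option maxHeartbeats 400000

namespace CfsgLib.OneNonlinear

open scoped ComplexConjugate commutatorElement
open CfsgLib.Char CfsgLib.CharDegree CfsgLib.CharIntegral

variable {G : Type*} [Group G] [Finite G]

open scoped Classical in
/-- The values of the linear characters at `h` sum to `|G : G'|` or to zero. -/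
theorem sum_linear [Fintype (Cfsg.IrrCharacter G)] (h : G) :
    ∑ ψ ∈ Finset.univ.filter (fun ψ : Cfsg.IrrCharacter G => Cfsg.charDegree (ψ : G → ℂ) = 1),
      (ψ : G → ℂ) h = if h ∈ commutator G then ((commutator G).index : ℂ) else 0 := by
  haveI := Fintype.ofFinite (Cfsg.IrrCharacter (G ⧸ commutator G))
  rw [Finset.sum_subtype (p := fun ψ : Cfsg.IrrCharacter G => Cfsg.charDegree (ψ : G → ℂ) = 1) _
    (by simp) (fun ψ : Cfsg.IrrCharacter G => (ψ : G → ℂ) h)]
  have hdeg : ∀ η : Cfsg.IrrCharacter (G ⧸ commutator G), (η : G ⧸ commutator G → ℂ) 1 = 1 :=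
    fun η => (charDegree_eq_one_iff η).mp (charDegree_of_comm quotient_commutator_comm η)
  rw [← ((inflEquiv (commutator G)).trans
    (Equiv.subtypeEquivRight fun ψ => (charDegree_eq_one_iff_commutator ψ).symm)).sum_comp]
  rw [show (∑ η : Cfsg.IrrCharacter (G ⧸ commutator G),
      ((((inflEquiv (commutator G)).trans (Equiv.subtypeEquivRight fun ψ =>
        (charDegree_eq_one_iff_commutator ψ).symm)) η : Cfsg.IrrCharacter G) : G → ℂ) h) =
      ∑ η : Cfsg.IrrCharacter (G ⧸ commutator G),
        (η : G ⧸ commutator G → ℂ) 1 * (η : G ⧸ commutator G → ℂ) (QuotientGroup.mk h) from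
      Finset.sum_congr rfl fun η _ => by rw [hdeg η, one_mul]; rfl]
  by_cases hh : h ∈ commutator G
  · rw [if_pos hh, (QuotientGroup.eq_one_iff h).mpr hh, Subgroup.index_eq_card, ← sum_sq_degree]
    exact Finset.sum_congr rfl fun η _ => (sq _).symm
  · rw [if_neg hh]
    exact sum_degree_mul_apply_of_ne_one fun h1 => hh ((QuotientGroup.eq_one_iff h).mp h1)

variable (g : G) (hg : g ∉ Subgroup.center G) (χ : Cfsg.IrrCharacter G)
  (hχ1 : Cfsg.charDegree (χ : G → ℂ) ≠ 1) (hχg : (χ : G → ℂ) g ≠ 0)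
  (hother : ∀ ψ : Cfsg.IrrCharacter G, Cfsg.charDegree (ψ : G → ℂ) ≠ 1 → ψ ≠ χ →
    (ψ : G → ℂ) g = 0)

include hg hχ1 hχg hother

open scoped Classical in
theorem column (h : G)
    (hgD : g ∈ commutator G) :
    (if h ∈ commutator G then ((commutator G).index : ℂ) else 0) +
      (χ : G → ℂ) h * conj ((χ : G → ℂ) g) =
      if IsConj h g then (Nat.card (Subgroup.centralizer ({h} : Set G)) : ℂ) else 0 := by
  classical
  haveI := Fintype.ofFinite (Cfsg.IrrCharacter G)
  rw [← column_orthogonality h g, ← Finset.sum_filter_add_sum_filter_not Finset.univ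
    (fun ψ : Cfsg.IrrCharacter G => Cfsg.charDegree (ψ : G → ℂ) = 1)]
  congr 1
  · rw [show (if h ∈ commutator G then ((commutator G).index : ℂ) else 0) = _ from
      (sum_linear h).symm.trans (Finset.sum_congr rfl fun ψ hψ => ?_)]
    have hψ1 := (Finset.mem_filter.mp hψ).2
    rw [le_ker_of_degree_one ψ hψ1 hgD, (charDegree_eq_one_iff ψ).mp hψ1, map_one, mul_one]
  · refine (Finset.sum_eq_single_of_mem (f := fun ψ : Cfsg.IrrCharacter G =>
      (ψ : G → ℂ) h * conj ((ψ : G → ℂ) g)) χ (by simp [hχ1]) fun ψ hψ hne => ?_).symm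
    rw [hother ψ (Finset.mem_filter.mp hψ).2 hne, map_zero, mul_zero]

omit hχg in
open scoped Classical in
theorem value_at_g_aux :
    (if g ∈ commutator G then ((commutator G).index : ℂ) else 0) +
      (χ : G → ℂ) 1 * (χ : G → ℂ) g = 0 := by
  classical
  haveI := Fintype.ofFinite (Cfsg.IrrCharacter G)
  have hg1 : g ≠ 1 := fun h => hg (h ▸ Subgroup.one_mem _)
  refine Eq.trans ?_ (sum_degree_mul_apply_of_ne_one hg1)
  rw [← Finset.sum_filter_add_sum_filter_not Finset.univ
    (fun ψ : Cfsg.IrrCharacter G => Cfsg.charDegree (ψ : G → ℂ) = 1)]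
  congr 1
  · rw [← sum_linear g]
    refine Finset.sum_congr rfl fun ψ hψ => ?_
    rw [(charDegree_eq_one_iff ψ).mp (Finset.mem_filter.mp hψ).2, one_mul]
  · refine (Finset.sum_eq_single_of_mem (f := fun ψ : Cfsg.IrrCharacter G =>
      (ψ : G → ℂ) 1 * (ψ : G → ℂ) g) χ (by simp [hχ1]) fun ψ hψ hne => ?_).symm
    rw [hother ψ (Finset.mem_filter.mp hψ).2 hne, mul_zero]

theorem mem_commutator : g ∈ commutator G := by
  by_contra h
  have h1 := value_at_g_aux g hg χ hχ1 hother
  rw [if_neg h, zero_add] at h1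
  exact hχg ((mul_eq_zero.mp h1).resolve_left (IsIrr.apply_one_ne_zero χ.2))

theorem value_at_g :
    (χ : G → ℂ) g = -(((commutator G).index : ℂ) / (χ : G → ℂ) 1) := by
  have h1 := value_at_g_aux g hg χ hχ1 hother
  rw [if_pos (mem_commutator g hg χ hχ1 hχg hother)] at h1
  have h0 := IsIrr.apply_one_ne_zero χ.2
  field_simp
  linear_combination h1

theorem value_off_class {h : G} (hh : ¬ IsConj g h) :
    (h ∈ commutator G → (χ : G → ℂ) h = (χ : G → ℂ) 1) ∧
      (h ∉ commutator G → (χ : G → ℂ) h = 0) := by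
  classical
  have h1 := column g hg χ hχ1 hχg hother h (mem_commutator g hg χ hχ1 hχg hother)
  rw [if_neg (show ¬ IsConj h g from fun hc => hh hc.symm)] at h1
  constructor
  · intro hD
    rw [if_pos hD] at h1
    have h2 := value_at_g_aux g hg χ hχ1 hother
    rw [if_pos (mem_commutator g hg χ hχ1 hχg hother)] at h2
    obtain ⟨n, hn⟩ := IsChar.exists_degree (IsIrr.isCharacter χ.2)
    have hreal : conj ((χ : G → ℂ) g) = (χ : G → ℂ) g := by
      rw [value_at_g g hg χ hχ1 hχg hother, hn]; simp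
    rw [hreal] at h1
    exact mul_right_cancel₀ hχg (by linear_combination h1 - h2)
  · intro hD
    rw [if_neg hD, zero_add] at h1
    exact (mul_eq_zero.mp h1).resolve_right (by simpa using hχg)

theorem not_isConj_of_ker {h : G} (hh : (χ : G → ℂ) h = (χ : G → ℂ) 1) : ¬ IsConj g h := by
  intro hc
  have h1 := isClassFunction_iff_isConj.mp (IsIrr.isClassFunction χ.2) g h hc
  rw [hh, value_at_g g hg χ hχ1 hχg hother] at h1
  obtain ⟨n, hn, hχ⟩ := IsIrr.exists_degree χ.2
  rw [hχ] at h1
  have h2 := congrArg Complex.re h1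
  simp only [Complex.neg_re, Complex.div_natCast_re, Complex.natCast_re] at h2
  have h3 : (0 : ℝ) ≤ ((commutator G).index : ℝ) / n := by positivity
  have h4 : (0 : ℝ) < n := by exact_mod_cast hn
  linarith

theorem ker_le_commutator {h : G} (hh : (χ : G → ℂ) h = (χ : G → ℂ) 1) : h ∈ commutator G := by
  by_contra hD
  have := (value_off_class g hg χ hχ1 hχg hother
    (not_isConj_of_ker g hg χ hχ1 hχg hother hh)).2 hD
  exact IsIrr.apply_one_ne_zero χ.2 (hh ▸ this)

theorem value_off_commutator {h : G} (hD : h ∉ commutator G) : (χ : G → ℂ) h = 0 := by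
  refine (value_off_class g hg χ hχ1 hχg hother fun hc => hD ?_).2 hD
  obtain ⟨c, rfl⟩ := isConj_iff.mp hc
  exact (inferInstance : (commutator G).Normal).conj_mem g
    (mem_commutator g hg χ hχ1 hχg hother) c

theorem commutator_eq : (commutator G : Set G) =
    {x : G | (χ : G → ℂ) x = (χ : G → ℂ) 1} ∪ {h : G | IsConj g h} := by
  ext x
  simp only [SetLike.mem_coe, Set.mem_union, Set.mem_ofPred_eq]
  constructor
  · intro hx
    by_cases hc : IsConj g x
    · exact Or.inr hc
    · exact Or.inl ((value_off_class g hg χ hχ1 hχg hother hc).1 hx)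
  · rintro (hx | hx)
    · exact ker_le_commutator g hg χ hχ1 hχg hother hx
    · obtain ⟨c, rfl⟩ := isConj_iff.mp hx
      exact (inferInstance : (commutator G).Normal).conj_mem g
        (mem_commutator g hg χ hχ1 hχg hother) c

/-- A nonlinear character with the kernel of `χ` in its kernel is `χ`. -/
theorem eq_of_ker_le (ψ : Cfsg.IrrCharacter G) (hψ1 : Cfsg.charDegree (ψ : G → ℂ) ≠ 1)
    (hker : ∀ x : G, (χ : G → ℂ) x = (χ : G → ℂ) 1 → (ψ : G → ℂ) x = (ψ : G → ℂ) 1) :
    ψ = χ := by
  classical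
  by_contra hne
  have hψg := hother ψ hψ1 hne
  obtain ⟨n, ρ, hρ, hψ, hn⟩ := exists_rep ψ
  haveI : Fintype (commutator G) := Fintype.ofFinite _
  set T : Module.End ℂ (Fin n → ℂ) := ∑ x : commutator G, ρ (x : G) with hT
  have hcomm : ∀ h, T * ρ h = ρ h * T := fun h => by
    rw [hT, Finset.sum_mul, Finset.mul_sum]
    refine Fintype.sum_equiv (MulAut.conjNormal (h⁻¹ : G)).toEquiv _ _ fun x => ?_
    rw [← map_mul, ← map_mul]
    congr 1
    simp [mul_assoc]
  haveI := Fintype.ofFinite G
  obtain ⟨c, hc⟩ := exists_eq_smul_of_commute ρ T hcomm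
  have hfix : ∀ y : commutator G, ρ (y : G) * T = T := fun y => by
    rw [hT, Finset.mul_sum]
    refine Fintype.sum_equiv (Equiv.mulLeft y) _ _ fun x => ?_
    rw [← map_mul]
    rfl
  have hc0 : c ≠ 0 := by
    intro h0
    have htr := congrArg (LinearMap.trace ℂ (Fin n → ℂ)) hc
    rw [h0, zero_smul, map_zero, hT, map_sum] at htr
    have hval : ∀ x : commutator G, LinearMap.trace ℂ (Fin n → ℂ) (ρ (x : G)) =
        if (χ : G → ℂ) x = (χ : G → ℂ) 1 then (ψ : G → ℂ) 1 else 0 := fun x => by
      rw [show LinearMap.trace ℂ (Fin n → ℂ) (ρ (x : G)) = (ψ : G → ℂ) x from congrFun hψ _]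
      have hx : (x : G) ∈ (commutator G : Set G) := x.2
      rw [commutator_eq g hg χ hχ1 hχg hother] at hx
      by_cases hk : (χ : G → ℂ) x = (χ : G → ℂ) 1
      · rw [if_pos hk, hker _ hk]
      · rw [if_neg hk, ← hψg]
        exact (isClassFunction_iff_isConj.mp (IsIrr.isClassFunction ψ.2) g x
          (hx.resolve_left hk)).symm
    rw [Finset.sum_congr rfl fun x _ => hval x, ← Finset.sum_filter, Finset.sum_const,
      nsmul_eq_mul, mul_eq_zero, Nat.cast_eq_zero, Finset.card_eq_zero] at htr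
    rcases htr with h | h
    · exact Finset.notMem_empty (1 : commutator G) (h ▸ by simp)
    · exact IsIrr.apply_one_ne_zero ψ.2 h
  refine hψ1 ((charDegree_eq_one_iff_commutator ψ).mpr fun y hy => ?_)
  have h1 := hfix ⟨y, hy⟩
  rw [hc, mul_smul_comm] at h1
  have h2 := smul_right_injective _ hc0 h1
  rw [← hψ, Representation.char_one]
  refine (character_eq_finrank_iff ρ y).mpr ?_
  exact h2

/-- An element central modulo the kernel lies in the derived subgroup. -/
theorem mem_of_central_mod_ker {z : G}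
    (hz : ∀ x : G, (χ : G → ℂ) ⁅z, x⁆ = (χ : G → ℂ) 1) : z ∈ commutator G := by
  by_contra hD
  obtain ⟨n, ρ, hρ, hχ, hn⟩ := exists_rep χ
  have hcomm : ∀ x, ρ z * ρ x = ρ x * ρ z := by
    intro x
    have h1 := hz x
    rw [← hχ, Representation.char_one, character_eq_finrank_iff] at h1
    have h2 : ρ (z * x) = ρ ⁅z, x⁆ * ρ (x * z) := by
      rw [← map_mul, commutatorElement_def]; congr 1; group
    rw [← map_mul, ← map_mul, h2, h1]
    rfl
  haveI := Fintype.ofFinite G
  obtain ⟨c, hc⟩ := exists_eq_smul_of_commute ρ (ρ z) hcomm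
  have hnorm := norm_character_eq_of_scalar ρ z (ω := c) hc
  have h0 := value_off_commutator g hg χ hχ1 hχg hother hD
  rw [hχ, h0, norm_zero, Module.finrank_fin_fun] at hnorm
  have hpos : 0 < n := hn ▸ charDegree_pos χ
  exact absurd (Nat.cast_eq_zero.mp hnorm.symm) hpos.ne'

end CfsgLib.OneNonlinear
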