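import Cfsg.Agent.Lib.Char.OneNonlinear.CaminaClass
import Cfsg.Agent.Lib.Core.FPFFourSolvable
import Cfsg.Agent.Lib.Transfer.Tate
import Cfsg.Agent.Lib.PGroups.Basic
import Cfsg.Agent.Lib.CharDegree.NoDiv.Counting
import Cfsg.Agent.S0033

/-!
# The group theory of one nonlinear character at an element: solvability

`K ◁ G` lies in `D = G'`, the elements of `D ∖ K` are the conjugates of `g`, and elements central
modulo `K` lie in `D`.
-/

set_option autoImplicit false
set_option linter.all false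
set_option maxHeartbeats 400000

namespace CfsgLib.OneNonlinear

open Subgroup
open scoped commutatorElement

/-- The configuration. -/
structure Setup {G : Type*} [Group G] (K : Subgroup G) (g : G) : Prop where
  le : K ≤ commutator G
  mem : g ∈ commutator G
  not_mem : g ∉ K
  conj : ∀ x ∈ commutator G, x ∉ K → IsConj g x
  central : ∀ z, (∀ x, ⁅z, x⁆ ∈ K) → z ∈ commutator G

variable {G : Type*} [Group G] [Finite G] {K : Subgroup G} [K.Normal] {g : G}

/-- A small centralizer makes every element of `P ∩ K` a commutator with `x`. -/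
theorem mem_commutators {P : Subgroup G} {x : G} (hx : x ∈ P)
    (hcomm : ∀ y ∈ P, ⁅y, x⁆ ∈ K)
    (hC : Nat.card (centralizer ({x} : Set G)) * Nat.card (P ⊓ K : Subgroup G) ≤ Nat.card P) :
    ∀ r ∈ P ⊓ K, ∃ y ∈ P, ⁅y, x⁆ = r := by
  set C : Subgroup P := (centralizer ({x} : Set G)).subgroupOf P with hCdef
  let f : P ⧸ C → (P ⊓ K : Subgroup G) := fun q =>
    ⟨⁅(q.out : G), x⁆, by
      refine ⟨?_, hcomm _ q.out.2⟩
      rw [commutatorElement_def]
      exact P.mul_mem (P.mul_mem (P.mul_mem q.out.2 hx) (P.inv_mem q.out.2)) (P.inv_mem hx)⟩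
  have hinj : Function.Injective f := by
    intro q q' h
    have h1 : ⁅(q.out : G), x⁆ = ⁅(q'.out : G), x⁆ := congrArg Subtype.val h
    rw [← q.out_eq', ← q'.out_eq', QuotientGroup.eq]
    show (((q.out)⁻¹ * q'.out : P) : G) ∈ centralizer ({x} : Set G)
    simp only [Subgroup.coe_mul, Subgroup.coe_inv]
    rw [mem_centralizer_singleton_iff]
    simp only [commutatorElement_def, mul_left_inj] at h1
    calc (q.out : G)⁻¹ * q'.out * x = (q.out : G)⁻¹ * ((q'.out : G) * x * (q'.out : G)⁻¹) * q'.out := by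
          group
      _ = x * ((q.out : G)⁻¹ * q'.out) := by rw [← h1]; group
  have hcard : Nat.card (P ⊓ K : Subgroup G) ≤ Nat.card (P ⧸ C) := by
    rw [← Subgroup.index_eq_card]
    have h2 : Nat.card C ≤ Nat.card (centralizer ({x} : Set G)) :=
      Nat.card_le_card_of_injective (fun c : C => (⟨((c : P) : G), c.2⟩ : centralizer ({x} : Set G)))
        fun a b h => Subtype.ext (Subtype.ext (Subtype.mk.inj h))
    have h3 := C.card_mul_index
    have h4 : 0 < Nat.card (centralizer ({x} : Set G)) := Nat.card_pos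
    by_contra hlt
    push Not at hlt
    nlinarith
  have hbij : Function.Bijective f := hinj.bijective_of_nat_card_le hcard
  intro r hr
  obtain ⟨q, hq⟩ := hbij.2 ⟨r, hr⟩
  exact ⟨q.out, q.out.2, congrArg Subtype.val hq⟩

/-- The common endgame. -/
theorem isSolvable_end {p : ℕ} [hp : Fact p.Prime] (hs : Setup K g)
    (hab : ∀ a ∈ commutator G, ∀ b ∈ commutator G, ⁅a, b⁆ ∈ K)
    (P : Sylow p G) (hgP : g ∈ (P : Subgroup G))
    (hR : ∀ r ∈ (P : Subgroup G) ⊓ K, ∃ y ∈ (P : Subgroup G), ⁅y, g⁆ = r)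
    (hC : IsPGroup p (centralizer ({g} : Set G))) (hord : g ^ 4 = 1 ∨ g ^ p = 1) :
    Group.IsSolvable G := by
  classical
  -- Tate
  have hle : K ⊓ (P : Subgroup G) ≤ (frattini P).map (P : Subgroup G).subtype := by
    intro r hr
    obtain ⟨y, hy, rfl⟩ := hR r ⟨hr.2, hr.1⟩
    refine ⟨⁅(⟨y, hy⟩ : (P : Subgroup G)), ⟨g, hgP⟩⁆,
      CfsgLib.PGroups.commutator_le_frattini' P.isPGroup' ?_, rfl⟩
    exact commutator_mem_commutator (mem_top _) (mem_top _)
  have hnpc := CfsgLib.Transfer.hasNormalPComplement_of_inf_le_frattini P K hle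
  have hcop := CfsgLib.Transfer.hasNormalPComplement_iff_coprime.mp hnpc
  set M : Subgroup G := (Cfsg.pResidual p K).map K.subtype with hM
  haveI : M.Normal := inferInstance
  have hMcop : (Nat.card M).Coprime p := by
    rwa [hM, ← Nat.card_congr
      ((Cfsg.pResidual p K).equivMapOfInjective K.subtype K.subtype_injective).toEquiv]
  have hfp : ∀ m : M, (MulAut.conjNormal g : MulAut M) m = m → m = 1 := by
    intro m hm
    have h1 : g * (m : G) * g⁻¹ = m := by
      rw [← MulAut.conjNormal_apply]; exact congrArg Subtype.val hm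
    have h2 : (m : G) ∈ centralizer ({g} : Set G) :=
      mem_centralizer_singleton_iff.mpr (mul_inv_eq_iff_eq_mul.mp h1).symm
    obtain ⟨k, hk⟩ := hC ⟨m, h2⟩
    have h3 : orderOf (m : G) ∣ p ^ k := orderOf_dvd_of_pow_eq_one (congrArg Subtype.val hk)
    have h4 : orderOf (m : G) = 1 := Nat.eq_one_of_dvd_coprimes (hMcop.pow_right k)
      (M.orderOf_dvd_natCard m.2) h3
    exact Subtype.ext (orderOf_eq_one_iff.mp h4)
  haveI hMs : Group.IsSolvable M := by
    rcases hord with h4 | hpo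
    · exact CfsgLib.Core.FPFFourSolvable.isSolvable_of_fixedPointFree_four
        (MulAut.conjNormal g) (by rw [← map_pow, h4, map_one]) hfp
    · rcases (Nat.dvd_prime hp.out).mp (orderOf_dvd_of_pow_eq_one
        (show (MulAut.conjNormal g : MulAut M) ^ p = 1 by rw [← map_pow, hpo, map_one])) with h | h
      · exact Group.isSolvable_of_comm fun a b => by
          have ha : ∀ a : M, a = 1 := fun a => hfp a (by rw [orderOf_eq_one_iff.mp h]; rfl)
          rw [ha a, ha b]
      · haveI := Cfsg.Agent.S0033.result (MulAut.conjNormal g : MulAut M) hfp p hp.out h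
        infer_instance
  haveI : Group.IsSolvable (Cfsg.pResidual p K) :=
    Group.isSolvable_of_isSolvable_injective (f := (((Cfsg.pResidual p K).equivMapOfInjective K.subtype
      K.subtype_injective).toMonoidHom : Cfsg.pResidual p K →* M))
      ((Cfsg.pResidual p K).equivMapOfInjective K.subtype K.subtype_injective).injective
  haveI : Group.IsNilpotent (K ⧸ Cfsg.pResidual p K) :=
    (CfsgLib.Transfer.isPGroup_quotient_pResidual).isNilpotent
  haveI hKs : Group.IsSolvable K :=
    Group.isSolvable_of_ker_le_range (Cfsg.pResidual p K).subtype (QuotientGroup.mk' (Cfsg.pResidual p K))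
      (by rw [QuotientGroup.ker_mk', Subgroup.range_subtype])
  haveI hDs : Group.IsSolvable (commutator G) := by
    haveI : Group.IsSolvable (commutator G ⧸ K.subgroupOf (commutator G)) :=
      Group.isSolvable_of_comm fun u v => by
        obtain ⟨a, rfl⟩ := QuotientGroup.mk_surjective u
        obtain ⟨b, rfl⟩ := QuotientGroup.mk_surjective v
        rw [← QuotientGroup.mk_mul, ← QuotientGroup.mk_mul, QuotientGroup.eq, mem_subgroupOf]
        have h := hab ((b : G)⁻¹) (inv_mem b.2) ((a : G)⁻¹) (inv_mem a.2)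
        simpa [commutatorElement_def, mul_assoc] using h
    refine Group.isSolvable_of_ker_le_range (Subgroup.inclusion hs.le)
      (QuotientGroup.mk' (K.subgroupOf (commutator G))) ?_
    rw [QuotientGroup.ker_mk', Subgroup.inclusion_range]
  haveI : Group.IsSolvable (G ⧸ commutator G) := Group.isSolvable_of_comm fun u v => by
    obtain ⟨a, rfl⟩ := QuotientGroup.mk_surjective u
    obtain ⟨b, rfl⟩ := QuotientGroup.mk_surjective v
    rw [← QuotientGroup.mk_mul, ← QuotientGroup.mk_mul, QuotientGroup.eq]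
    rw [show (a * b)⁻¹ * (b * a) = ⁅b⁻¹, a⁻¹⁆ by rw [commutatorElement_def]; group]
    exact commutator_mem_commutator (mem_top _) (mem_top _)
  exact Group.isSolvable_of_ker_le_range (commutator G).subtype
    (QuotientGroup.mk' (commutator G)) (by rw [QuotientGroup.ker_mk', Subgroup.range_subtype])

/-- The normal subgroups above `K` contain the derived subgroup. -/
theorem Setup.min (hs : Setup K g) {N : Subgroup G} [N.Normal] (hKN : K ≤ N) (hne : ¬ N ≤ K) :
    commutator G ≤ N := by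
  obtain ⟨z, hzN, hzK⟩ := SetLike.not_le_iff_exists.mp hne
  obtain ⟨w, hwN, hwD, hwK⟩ : ∃ w ∈ N, w ∈ commutator G ∧ w ∉ K := by
    by_cases hzD : z ∈ commutator G
    · exact ⟨z, hzN, hzD, hzK⟩
    · obtain ⟨x, hx⟩ := not_forall.mp fun h => hzD (hs.central z h)
      refine ⟨⁅z, x⁆, ?_, commutator_mem_commutator (mem_top _) (mem_top _), hx⟩
      exact Subgroup.commutator_le_left N ⊤ (commutator_mem_commutator hzN (mem_top _))
  intro d hd
  by_cases hdK : d ∈ K
  · exact hKN hdK
  · obtain ⟨c, hc⟩ := isConj_iff.mp ((hs.conj w hwD hwK).symm.trans (hs.conj d hd hdK))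
    rw [← hc]
    exact (inferInstance : N.Normal).conj_mem w hwN c

/-- The derived subgroup modulo `K` is elementary abelian and its elements outside `K` are
`p`-elements. -/
theorem Setup.prime (hs : Setup K g) : ∃ p : ℕ, p.Prime ∧
    (∀ a ∈ commutator G, ∀ b ∈ commutator G, ⁅a, b⁆ ∈ K) ∧
    (∀ x ∈ commutator G, x ^ p ∈ K) ∧
    (∀ x ∈ commutator G, x ∉ K → ∃ k, x ^ p ^ k = 1) := by
  classical
  set π := QuotientGroup.mk' K
  set V : Subgroup (G ⧸ K) := (commutator G).map π with hV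
  have hπ : ∀ x, π x = 1 ↔ x ∈ K := fun x => QuotientGroup.eq_one_iff x
  have hVconj : ∀ v ∈ V, v ≠ 1 → IsConj (π g) v := by
    rintro _ ⟨x, hx, rfl⟩ hv
    exact (π).map_isConj (hs.conj x hx fun h => hv ((hπ x).mpr h))
  have hg1 : π g ≠ 1 := fun h => hs.not_mem ((hπ g).mp h)
  have hgV : π g ∈ V := mem_map_of_mem _ hs.mem
  obtain ⟨p, hp, hdvd⟩ := Nat.exists_prime_and_dvd
    (fun h => hg1 (orderOf_eq_one_iff.mp h) : orderOf (π g) ≠ 1)
  haveI := Fact.mk hp
  have hpv : ∀ v ∈ V, v ^ p = 1 := by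
    have hgp : (π g) ^ p = 1 := by
      set u := (π g) ^ (orderOf (π g) / p) with hu
      have hup : orderOf u = p := orderOf_pow_orderOf_div (orderOf_pos _).ne' hdvd
      have hu1 : u ≠ 1 := fun h => hp.ne_one (by rw [← hup, h, orderOf_one])
      obtain ⟨c, hc⟩ := isConj_iff.mp (hVconj u (V.pow_mem hgV _) hu1)
      have : orderOf (π g) = p := by
        rw [← hup, ← hc, show c * π g * c⁻¹ = MulAut.conj c (π g) from rfl, MulEquiv.orderOf_eq]
      rw [← this, pow_orderOf_eq_one]
    intro v hv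
    by_cases hv1 : v = 1
    · rw [hv1, one_pow]
    · obtain ⟨c, rfl⟩ := isConj_iff.mp (hVconj v hv hv1)
      rw [conj_pow, hgp, mul_one, mul_inv_cancel]
  have hpK : ∀ x ∈ commutator G, x ^ p ∈ K := fun x hx => by
    rw [← hπ, map_pow]; exact hpv _ (mem_map_of_mem _ hx)
  have hVp : IsPGroup p V := fun v => ⟨1, Subtype.ext (by simpa using hpv v v.2)⟩
  haveI : V.Normal := (inferInstance : (commutator G).Normal).map π (QuotientGroup.mk'_surjective K)
  have hVab : ⁅V, V⁆ = ⊥ := by
    by_contra hne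
    obtain ⟨⟨w, hw⟩, hne1⟩ := ne_bot_iff_exists_ne_one.mp hne
    have hw1 : w ≠ 1 := fun h' => hne1 (Subtype.ext h')
    have hle : V ≤ ⁅V, V⁆ := by
      intro v hv
      by_cases hv1 : v = 1
      · rw [hv1]; exact one_mem _
      · obtain ⟨c, hc⟩ := isConj_iff.mp
          ((hVconj w (Subgroup.commutator_le_left V V hw) hw1).symm.trans (hVconj v hv hv1))
        rw [← hc]
        exact (inferInstance : (⁅V, V⁆ : Subgroup (G ⧸ K)).Normal).conj_mem _ hw c
    haveI := hVp.isNilpotent
    haveI : Nontrivial V := ⟨⟨⟨π g, hgV⟩, 1, fun h => hg1 (congrArg Subtype.val h)⟩⟩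
    refine (Group.IsSolvable.commutator_lt_top_of_nontrivial V).ne (eq_top_iff.mpr fun v _ => ?_)
    have h2 : (v : G ⧸ K) ∈ (commutator V).map V.subtype := by
      rw [Subgroup.map_subtype_commutator]; exact hle v.2
    obtain ⟨v', hv', he⟩ := h2
    rwa [← V.subtype_injective he]
  refine ⟨p, hp, fun a ha b hb => ?_, hpK, fun x hx hxK => ?_⟩
  · rw [← hπ, map_commutatorElement, ← Subgroup.mem_bot, ← hVab]
    exact commutator_mem_commutator (mem_map_of_mem _ ha) (mem_map_of_mem _ hb)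
  · obtain ⟨k, m, hm, hn⟩ :=
      Nat.exists_eq_pow_mul_and_not_dvd (orderOf_pos g).ne' p hp.ne_one
    have hgm : g ^ m ∉ K := by
      intro h
      apply hs.not_mem
      have hc : (m : ℕ).Coprime p := ((hp.coprime_iff_not_dvd).mpr hm).symm
      have hb : (1 : ℤ) = m * Nat.gcdA m p + p * Nat.gcdB m p := by
        rw [← Nat.gcd_eq_gcd_ab, hc]; rfl
      rw [← zpow_one g, hb, zpow_add, zpow_mul, zpow_mul, zpow_natCast, zpow_natCast]
      exact K.mul_mem (K.zpow_mem h _) (K.zpow_mem (hpK g hs.mem) _)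
    have hgk : (g ^ m) ^ p ^ k = 1 := by
      rw [← pow_mul, mul_comm, ← hn, pow_orderOf_eq_one]
    refine ⟨k, ?_⟩
    obtain ⟨c, hc⟩ := isConj_iff.mp
      ((hs.conj _ (Subgroup.pow_mem _ hs.mem m) hgm).symm.trans (hs.conj x hx hxK))
    rw [← hc, conj_pow, hgk, mul_one, mul_inv_cancel]

/-- The centralizer order. -/
theorem Setup.card_centralizer (hs : Setup K g) :
    Nat.card (centralizer ({g} : Set G)) * (Nat.card (commutator G) - Nat.card K) = Nat.card G := by
  have hset : (ConjClasses.mk g).carrier = ((commutator G : Set G) \ (K : Set G)) := by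
    ext x
    rw [ConjClasses.mem_carrier_iff_mk_eq, ConjClasses.mk_eq_mk_iff_isConj]
    refine ⟨fun h => ?_, fun h => (hs.conj x h.1 h.2).symm⟩
    obtain ⟨c, rfl⟩ := isConj_iff.mp h.symm
    refine ⟨(inferInstance : (commutator G).Normal).conj_mem g hs.mem c, fun hK => hs.not_mem ?_⟩
    simpa [mul_assoc] using (inferInstance : K.Normal).conj_mem _ hK c⁻¹
  have h := (centralizer ({g} : Set G)).card_mul_index
  rw [← CfsgLib.Char.card_carrier_eq_index, Nat.card_coe_set_eq, hset,
    Set.ncard_sdiff (SetLike.coe_subset_coe.mpr hs.le) (Set.toFinite _)] at h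
  simpa [← Nat.card_coe_set_eq] using h

theorem card_inf_le {p : ℕ} [hp : Fact p.Prime] {P : Sylow p G} (H : Subgroup G) :
    Nat.card ((P : Subgroup G) ⊓ H : Subgroup G) ∣ p ^ (Nat.card H).factorization p := by
  obtain ⟨n, hn⟩ := IsPGroup.iff_card.mp (P.isPGroup'.to_le
    (inf_le_left : (P : Subgroup G) ⊓ H ≤ (P : Subgroup G)))
  rw [hn]
  refine Nat.pow_dvd_pow p ((hp.out.pow_dvd_iff_le_factorization Nat.card_pos.ne').mp ?_)
  exact hn ▸ Subgroup.card_dvd_of_le inf_le_right

/-- The case of a centre. -/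
theorem isSolvable_central (hs : Setup K g) (hB : ∀ x, ⁅g, x⁆ ∈ K) : Group.IsSolvable G := by
  classical
  obtain ⟨p, hp, hab, hpK, hpel⟩ := hs.prime
  haveI := Fact.mk hp
  set π := QuotientGroup.mk' K
  have hπ : ∀ x, π x = 1 ↔ x ∈ K := fun x => QuotientGroup.eq_one_iff x
  have hπc : ∀ y, π g * y = y * π g := by
    intro y
    obtain ⟨x, rfl⟩ := QuotientGroup.mk'_surjective K y
    rw [← commutatorElement_eq_one_iff_mul_comm, ← map_commutatorElement, hπ]
    exact hB x
  have hD : ∀ x ∈ commutator G, π x = 1 ∨ π x = π g := by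
    intro x hx
    by_cases hxK : x ∈ K
    · exact Or.inl ((hπ x).mpr hxK)
    · obtain ⟨c, rfl⟩ := isConj_iff.mp (hs.conj x hx hxK)
      right
      simp only [map_mul, map_inv]
      rw [← hπc, mul_inv_cancel_right]
  have hg1 : π g ≠ 1 := fun h => hs.not_mem ((hπ g).mp h)
  have hg2 : π g * π g = 1 := by
    rcases hD (g * g) (mul_mem hs.mem hs.mem) with h | h
    · rwa [map_mul] at h
    · rw [map_mul] at h
      exact absurd (mul_eq_right.mp h) hg1
  have hp2 : p = 2 := by
    have h1 : orderOf (π g) = p := orderOf_eq_prime (by rw [← map_pow, hπ]; exact hpK g hs.mem) hg1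
    have h2 : orderOf (π g) = 2 := orderOf_eq_prime (by rw [pow_two]; exact hg2) hg1
    omega
  subst hp2
  have hcD : ∀ x y : G, π ⁅x, y⁆ = 1 ∨ π ⁅x, y⁆ = π g := fun x y =>
    hD _ (commutator_mem_commutator (mem_top _) (mem_top _))
  have hsq : ∀ x : G, x * x ∈ commutator G := by
    refine fun x => hs.central _ fun y => ?_
    rw [← hπ, show ⁅x * x, y⁆ = x * ⁅x, y⁆ * x⁻¹ * ⁅x, y⁆ by simp only [commutatorElement_def]; group]
    rcases hcD x y with h | h
    · simp [map_mul, h]
    · simp only [map_mul, map_inv, h]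
      rw [← hπc (π x), mul_inv_cancel_right, hg2]
  have hQ : IsPGroup 2 (G ⧸ K) := by
    intro q
    obtain ⟨x, rfl⟩ := QuotientGroup.mk'_surjective K q
    refine ⟨2, ?_⟩
    rw [show (2 : ℕ) ^ 2 = 2 * 2 from rfl, pow_mul, pow_two, pow_two, ← map_mul]
    rcases hD _ (hsq x) with h | h
    · rw [h, mul_one]
    · rw [h, hg2]
  have hcardD : Nat.card (commutator G) - Nat.card K = Nat.card K := by
    have hset : ((commutator G : Set G) \ (K : Set G)) = (fun k => g * k) '' (K : Set G) := by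
      ext x
      constructor
      · rintro ⟨hx, hxK⟩
        refine ⟨g⁻¹ * x, ?_, mul_inv_cancel_left g x⟩
        rw [SetLike.mem_coe, ← hπ, map_mul, map_inv,
          (hD x hx).resolve_left fun h => hxK ((hπ x).mp h), inv_mul_cancel]
      · rintro ⟨k, hk, rfl⟩
        exact ⟨mul_mem hs.mem (hs.le hk), fun h => hs.not_mem
          (by simpa using K.mul_mem h (K.inv_mem hk))⟩
    have h := congrArg Set.ncard hset
    rw [Set.ncard_sdiff (SetLike.coe_subset_coe.mpr hs.le) (Set.toFinite _),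
      Set.ncard_image_of_injective _ (mul_right_injective g)] at h
    simpa [← Nat.card_coe_set_eq] using h
  have hC : Nat.card (centralizer ({g} : Set G)) = K.index := by
    have h := hs.card_centralizer
    rw [hcardD, ← K.index_mul_card] at h
    exact Nat.eq_of_mul_eq_mul_right Nat.card_pos h
  obtain ⟨n, hn⟩ := IsPGroup.iff_card.mp hQ
  rw [← Subgroup.index_eq_card] at hn
  have hCp : IsPGroup 2 (centralizer ({g} : Set G)) := IsPGroup.of_card (hC.trans hn)
  obtain ⟨k, hk⟩ := hpel g hs.mem hs.not_mem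
  obtain ⟨P, hP⟩ := IsPGroup.exists_le_sylow (show IsPGroup 2 (zpowers g) from fun x => by
    obtain ⟨j, hj⟩ := x.2
    refine ⟨k, Subtype.ext ?_⟩
    have hj' : g ^ j = (x : G) := hj
    rw [SubgroupClass.coe_pow, ← hj', ← zpow_natCast, ← zpow_mul, mul_comm, zpow_mul, zpow_natCast,
      hk, one_zpow]
    rfl)
  have hgP : g ∈ (P : Subgroup G) := hP (mem_zpowers g)
  -- `P` covers `G / K`
  have hsup : ((P : Subgroup G).map π) = ⊤ := by
    have h := congrArg (Subgroup.map π) (CfsgLib.Transfer.sup_sylow_eq_top hQ P)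
    rwa [Subgroup.map_sup, (Subgroup.map_eq_bot_iff K).mpr (QuotientGroup.ker_mk' K).ge,
      bot_sup_eq, Subgroup.map_top_of_surjective _ (QuotientGroup.mk'_surjective K)] at h
  have hcover : ∀ x : G, ∃ y ∈ (P : Subgroup G), π y = π x := fun x => by
    have : π x ∈ (P : Subgroup G).map π := hsup ▸ mem_top _
    exact this
  have hPK : Nat.card (P : Subgroup G) =
      K.index * Nat.card ((P : Subgroup G) ⊓ K : Subgroup G) := by
    set f := π.comp (P : Subgroup G).subtype with hf
    have hr : f.range = ⊤ := by rw [hf, MonoidHom.range_comp, Subgroup.range_subtype, hsup]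
    have hker : Nat.card f.ker = Nat.card ((P : Subgroup G) ⊓ K : Subgroup G) :=
      Nat.card_congr
        { toFun := fun y => ⟨(y : (P : Subgroup G)), y.1.2, (hπ _).mp y.2⟩
          invFun := fun y => ⟨⟨y, y.2.1⟩, (hπ _).mpr y.2.2⟩
          left_inv := fun _ => rfl
          right_inv := fun _ => rfl }
    rw [← f.ker.index_mul_card, hker, Subgroup.index_ker, hr, Subgroup.card_top,
      ← Subgroup.index_eq_card]
  have hR := mem_commutators (K := K) hgP
    (fun y _ => by rw [← commutatorElement_inv]; exact K.inv_mem (hB y)) (by rw [hC, hPK])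
  refine isSolvable_end hs hab P hgP hR hCp (Or.inl ?_)
  -- work inside `P`
  by_cases hsplit : ∀ u ∈ (P : Subgroup G), ∃ a ∈ (P : Subgroup G), ∃ b ∈ (P : Subgroup G),
      π ⁅a, b⁆ ≠ 1 ∧ π ⁅a, u⁆ = 1 ∧ π ⁅b, u⁆ = 1
  · -- `P ∩ K = 1`
    set R := (P : Subgroup G) ⊓ K with hRdef
    set R1 : Subgroup G := ⁅R, (P : Subgroup G)⁆ with hR1
    have hRp : ∀ y ∈ (P : Subgroup G), ∀ r ∈ R, y * r * y⁻¹ ∈ R := fun y hy r hr =>
      ⟨(P : Subgroup G).mul_mem ((P : Subgroup G).mul_mem hy hr.1) ((P : Subgroup G).inv_mem hy),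
        (inferInstance : K.Normal).conj_mem r hr.2 y⟩
    have hR1R : R1 ≤ R := Subgroup.commutator_le.mpr fun r hr y hy => by
      rw [show ⁅r, y⁆ = r * (y * r⁻¹ * y⁻¹) by simp only [commutatorElement_def]; group]
      exact mul_mem hr (hRp y hy _ (inv_mem hr))
    let R' : Subgroup (P : Subgroup G) := R.subgroupOf (P : Subgroup G)
    haveI hR'n : R'.Normal := ⟨fun r hr y => hRp y y.2 r hr⟩
    let N : Subgroup (P : Subgroup G) := ⁅R', (⊤ : Subgroup (P : Subgroup G))⁆
    have key : R' ≤ N := by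
      intro r hr
      obtain ⟨y, hy, hyr⟩ := hR (r : G) hr
      set ψ := QuotientGroup.mk' N with hψ
      have hψc : ∀ s ∈ R', ∀ z, ψ s * ψ z = ψ z * ψ s := fun s hs' z => by
        rw [← commutatorElement_eq_one_iff_mul_comm, ← map_commutatorElement]
        exact (QuotientGroup.eq_one_iff _).mpr (commutator_mem_commutator hs' (mem_top _))
      obtain ⟨a, ha, b, hb, hab', hau, hbu⟩ := hsplit y hy
      let a' : (P : Subgroup G) := ⟨a, ha⟩
      let b' : (P : Subgroup G) := ⟨b, hb⟩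
      let u : (P : Subgroup G) := ⟨y, hy⟩
      let g' : (P : Subgroup G) := ⟨g, hgP⟩
      have hs1 : g'⁻¹ * ⁅a', b'⁆ ∈ R' := ⟨(g'⁻¹ * ⁅a', b'⁆).2, (hπ _).mp (by
        show π (g⁻¹ * ⁅a, b⁆) = 1
        rw [map_mul, map_inv, (hcD a b).resolve_left hab', inv_mul_cancel])⟩
      have hra : ⁅a', u⁆ ∈ R' := ⟨(⁅a', u⁆).2, (hπ _).mp hau⟩
      have hrb : ⁅b', u⁆ ∈ R' := ⟨(⁅b', u⁆).2, (hπ _).mp hbu⟩
      -- conjugation by `u` fixes `a'`, `b'` up to central elements
      have hca := hψc _ hra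
      have hcb := hψc _ hrb
      have hua : ψ u * ψ a' * (ψ u)⁻¹ = (ψ ⁅a', u⁆)⁻¹ * ψ a' := by
        rw [map_commutatorElement, commutatorElement_def]; group
      have hub : ψ u * ψ b' * (ψ u)⁻¹ = (ψ ⁅b', u⁆)⁻¹ * ψ b' := by
        rw [map_commutatorElement, commutatorElement_def]; group
      have hc1 : ψ u * ⁅ψ a', ψ b'⁆ * (ψ u)⁻¹ = ⁅ψ a', ψ b'⁆ := by
        rw [show ψ u * ⁅ψ a', ψ b'⁆ * (ψ u)⁻¹ =
          ⁅ψ u * ψ a' * (ψ u)⁻¹, ψ u * ψ b' * (ψ u)⁻¹⁆ from
          (map_commutatorElement (MulAut.conj (ψ u)).toMonoidHom _ _), hua, hub]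
        have h1 : ∀ c d A B : ((P : Subgroup G) ⧸ N), (∀ z, c * z = z * c) →
            (∀ z, d * z = z * d) → ⁅c * A, d * B⁆ = ⁅A, B⁆ := by
          intro c d A B hc hd
          simp only [commutatorElement_def]
          calc c * A * (d * B) * (c * A)⁻¹ * (d * B)⁻¹ =
              c * (A * d) * B * A⁻¹ * c⁻¹ * B⁻¹ * d⁻¹ := by group
            _ = c * (d * (A * B * A⁻¹)) * c⁻¹ * B⁻¹ * d⁻¹ := by rw [← hd A]; group
            _ = d * (A * B * A⁻¹) * B⁻¹ * d⁻¹ := by rw [hc (d * (A * B * A⁻¹)), mul_inv_cancel_right]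
            _ = d * (A * B * A⁻¹ * B⁻¹ * d⁻¹) := by group
            _ = _ := by rw [hd, mul_assoc, inv_mul_cancel, mul_one]
        have hinv : ∀ (c : (P : Subgroup G) ⧸ N), (∀ z, c * z = z * c) → ∀ z, c⁻¹ * z = z * c⁻¹ :=
          fun c hc z => (Commute.inv_left (show Commute c z from hc z)).eq
        exact h1 _ _ _ _
          (hinv _ fun z => by obtain ⟨w, rfl⟩ := QuotientGroup.mk'_surjective N z; exact hca w)
          (hinv _ fun z => by obtain ⟨w, rfl⟩ := QuotientGroup.mk'_surjective N z; exact hcb w)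
      have hgu : ψ u * ψ g' = ψ g' * ψ u := by
        have he : ψ g' = ⁅ψ a', ψ b'⁆ * (ψ (g'⁻¹ * ⁅a', b'⁆))⁻¹ := by
          rw [map_mul, map_inv, map_commutatorElement]; group
        have hcs := hψc _ hs1 u
        have hc1' := mul_inv_eq_iff_eq_mul.mp hc1
        rw [he, ← mul_assoc, hc1', mul_assoc, mul_assoc]
        congr 1
        exact ((Commute.inv_right (show Commute (ψ u) (ψ (g'⁻¹ * ⁅a', b'⁆)) from hcs.symm))).eq
      have hr' : r = ⁅u, g'⁆ := Subtype.ext hyr.symm
      rw [hr', ← QuotientGroup.eq_one_iff (N := N)]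
      show ψ ⁅u, g'⁆ = 1
      rw [map_commutatorElement, commutatorElement_eq_one_iff_mul_comm]
      exact hgu
    have hbot : R' = ⊥ := by
      haveI := P.isPGroup'.isNilpotent
      obtain ⟨c, hc⟩ := Subgroup.nilpotent_iff_lowerCentralSeries.mp
        (inferInstance : Group.IsNilpotent (P : Subgroup G))
      have : ∀ j, R' ≤ Subgroup.lowerCentralSeries (⊤ : Subgroup (P : Subgroup G)) j := by
        intro j
        induction j with
        | zero => simp
        | succ j ih =>
          rw [Subgroup.lowerCentralSeries_succ]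
          exact key.trans (Subgroup.commutator_mono ih le_rfl)
      exact eq_bot_iff.mpr (hc ▸ this c)
    have h2 : g ^ 2 = 1 := by
      have hm : (⟨g, hgP⟩ : (P : Subgroup G)) ^ 2 ∈ R' := ⟨((⟨g, hgP⟩ : (P : Subgroup G)) ^ 2).2,
        hpK g hs.mem⟩
      rw [hbot, mem_bot] at hm
      exact congrArg Subtype.val hm
    rw [show (4 : ℕ) = 2 * 2 from rfl, pow_mul, h2, one_pow]
  · push Not at hsplit
    obtain ⟨u, hu, hu'⟩ := hsplit
    -- the form has rank two
    have hhom : ∀ w x y : G, π ⁅x * y, w⁆ = π ⁅x, w⁆ * π ⁅y, w⁆ := by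
      intro w x y
      rw [show ⁅x * y, w⁆ = x * ⁅y, w⁆ * x⁻¹ * ⁅x, w⁆ by simp only [commutatorElement_def]; group,
        map_mul, map_mul, map_mul, map_inv]
      have hcy : ∀ z, π ⁅y, w⁆ * z = z * π ⁅y, w⁆ := fun z => by
        rcases hcD y w with h | h
        · rw [h, one_mul, mul_one]
        · rw [h, hπc]
      rw [← hcy (π x), mul_inv_cancel_right, hcy]
    let φ : G → (G →* G ⧸ K) := fun w => MonoidHom.mk' (fun x => π ⁅x, w⁆) (hhom w)
    have hφr : ∀ w, Nat.card (φ w).range ≤ 2 := by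
      intro w
      have hsub : ((φ w).range : Set (G ⧸ K)) ⊆ {1, π g} := by
        rintro _ ⟨x, rfl⟩
        rcases hcD x w with h | h
        · exact Or.inl h
        · exact Or.inr h
      rw [show Nat.card (φ w).range = ((φ w).range : Set (G ⧸ K)).ncard from Nat.card_coe_set_eq _]
      exact (Set.ncard_le_ncard hsub (Set.toFinite _)).trans
        ((Set.ncard_insert_le _ _).trans (by simp))
    have hidx : ∀ w, (φ w).ker.index ≤ 2 := fun w => by rw [Subgroup.index_ker]; exact hφr w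
    -- all commutators inside `C_u` vanish
    set C := (φ u).ker with hCd
    have hCc : ∀ x ∈ C, ∀ y ∈ C, π ⁅x, y⁆ = 1 := by
      intro x hx y hy
      obtain ⟨a, ha, hax⟩ := hcover x
      obtain ⟨b, hb, hby⟩ := hcover y
      have hau : π ⁅a, u⁆ = 1 := by
        rw [map_commutatorElement, hax, ← map_commutatorElement]; exact hx
      have hbu : π ⁅b, u⁆ = 1 := by
        rw [map_commutatorElement, hby, ← map_commutatorElement]; exact hy
      rw [map_commutatorElement, ← hax, ← hby, ← map_commutatorElement]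
      by_contra hne
      exact hu' a ha b hb hne hau hbu
    obtain ⟨x₀, y₀, hxy⟩ : ∃ x y : G, π ⁅x, y⁆ ≠ 1 := by
      by_contra h
      push Not at h
      refine hs.not_mem ?_
      have : commutator G ≤ K := Subgroup.commutator_le.mpr fun x _ y _ => (hπ _).mp (h x y)
      exact this hs.mem
    obtain ⟨v, hv⟩ : ∃ v, v ∉ C := by
      by_contra h
      push Not at h
      exact hxy (hCc x₀ (h _) y₀ (h _))
    have hle : C ⊓ (φ v).ker ≤ commutator G := by
      intro x hx
      refine hs.central x fun y => (hπ _).mp ?_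
      by_cases hy : y ∈ C
      · exact hCc x hx.1 y hy
      · -- `y ∈ C v`
        have hvy : v⁻¹ * y ∈ C := by
          rw [hCd, MonoidHom.mem_ker] at hv hy ⊢
          have h1 : (φ u) v = π g := (hcD v u).resolve_left hv
          have h2 : (φ u) y = π g := (hcD y u).resolve_left hy
          rw [map_mul, map_inv, h1, h2, inv_mul_cancel]
        rw [show y = v * (v⁻¹ * y) by group,
          show ⁅x, v * (v⁻¹ * y)⁆ = ⁅x, v⁆ * (v * ⁅x, v⁻¹ * y⁆ * v⁻¹) by
            simp only [commutatorElement_def]; group,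
          map_mul, map_mul, map_mul, hCc x hx.1 _ hvy, show π ⁅x, v⁆ = 1 from hx.2]
        simp
    have hDidx : (commutator G).index ≤ 4 := by
      refine (Nat.le_of_dvd (Nat.pos_of_ne_zero Subgroup.index_ne_zero_of_finite)
        (Subgroup.index_dvd_of_le hle)).trans ?_
      exact Subgroup.index_inf_le.trans (Nat.mul_le_mul (hidx u) (hidx v))
    have hK8 : K.index ≤ 8 := by
      rw [← Subgroup.relIndex_mul_index hs.le]
      have hrel : K.relIndex (commutator G) ≤ 2 := by
        have h1 : Nat.card K * K.relIndex (commutator G) = Nat.card (commutator G) := by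
          rw [← Nat.card_congr (Subgroup.subgroupOfEquivOfLe hs.le).toEquiv]
          exact (K.subgroupOf (commutator G)).card_mul_index
        have h2 : 0 < Nat.card K := Nat.card_pos
        by_contra hlt
        push Not at hlt
        have h3 : Nat.card K * 3 ≤ Nat.card (commutator G) := h1 ▸ Nat.mul_le_mul_left _ hlt
        omega
      exact (Nat.mul_le_mul hrel hDidx).trans (by norm_num)
    obtain ⟨c, hcP, hc⟩ : ∃ c ∈ (P : Subgroup G), π (c * c) ≠ 1 := by
      by_contra h
      push Not at h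
      apply hxy
      have hall : ∀ q : G ⧸ K, q * q = 1 := fun q => by
        obtain ⟨x, rfl⟩ := QuotientGroup.mk'_surjective K q
        obtain ⟨y, hy, hyx⟩ := hcover x
        rw [← hyx, ← map_mul]
        exact h y hy
      rw [map_commutatorElement, commutatorElement_eq_one_iff_mul_comm]
      have h2 := hall (π x₀ * π y₀)
      calc π x₀ * π y₀ = (π x₀ * π y₀)⁻¹ := eq_inv_of_mul_eq_one_left h2
        _ = (π y₀)⁻¹ * (π x₀)⁻¹ := mul_inv_rev _ _
        _ = π y₀ * π x₀ := by
          rw [inv_eq_of_mul_eq_one_right (hall (π y₀)), inv_eq_of_mul_eq_one_right (hall (π x₀))]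
    obtain ⟨y, hy, hyg⟩ := hR (c * c * g⁻¹) ⟨(P : Subgroup G).mul_mem ((P : Subgroup G).mul_mem hcP hcP) ((P : Subgroup G).inv_mem hgP), (hπ _).mp (by
      rw [map_mul, map_inv, (hD _ (hsq c)).resolve_left hc, mul_inv_cancel])⟩
    set d := y⁻¹ * c * y with hd
    have hdd : d * d = g := by
      have h1 : y * g * y⁻¹ = c * c := by
        have := congrArg (fun z => z * g) hyg
        simpa [commutatorElement_def, mul_assoc] using this
      rw [hd, show y⁻¹ * c * y * (y⁻¹ * c * y) = y⁻¹ * (c * c) * y by group, ← h1]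
      group
    have hdC : d ∈ centralizer ({g} : Set G) :=
      mem_centralizer_singleton_iff.mpr (by rw [← hdd]; exact (mul_assoc d d d).symm)
    have h8 : d ^ 8 = 1 := by
      refine orderOf_dvd_iff_pow_eq_one.mp (dvd_trans
        (hC ▸ (centralizer ({g} : Set G)).orderOf_dvd_natCard hdC) ?_)
      rw [hn] at hK8 ⊢
      exact (Nat.pow_dvd_pow 2 ((Nat.pow_le_pow_iff_right (by norm_num : 1 < 2)).mp
        (show 2 ^ n ≤ 2 ^ 3 from hK8)))
    rw [← hdd, ← pow_two, ← pow_mul]
    exact h8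

/-- The case of no centre. -/
theorem isSolvable_noncentral (hs : Setup K g) (hA : ¬ ∀ x, ⁅g, x⁆ ∈ K) : Group.IsSolvable G := by
  classical
  obtain ⟨p, hp, hab, hpK, hpel⟩ := hs.prime
  haveI := Fact.mk hp
  set π := QuotientGroup.mk' K with hπdef
  have hπs : Function.Surjective π := QuotientGroup.mk'_surjective K
  have hπ : ∀ x, π x = 1 ↔ x ∈ K := fun x => QuotientGroup.eq_one_iff x
  set D := commutator G with hDdef
  set V : Subgroup (G ⧸ K) := D.map π with hV
  have hVc : ∀ a ∈ V, ∀ b ∈ V, a * b = b * a := by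
    rintro _ ⟨a, ha, rfl⟩ _ ⟨b, hb, rfl⟩
    rw [← commutatorElement_eq_one_iff_mul_comm, ← map_commutatorElement, hπ]
    exact hab a ha b hb
  have hmemV : ∀ x, π x ∈ V → x ∈ D := by
    rintro x ⟨d, hd, hdx⟩
    have h1 : d⁻¹ * x ∈ K := by rw [← hπ, map_mul, map_inv, hdx, inv_mul_cancel]
    simpa using D.mul_mem hd (hs.le h1)
  have hcommV : ∀ a b : G ⧸ K, ⁅a, b⁆ ∈ V := by
    intro a b
    obtain ⟨x, rfl⟩ := hπs a
    obtain ⟨y, rfl⟩ := hπs b
    exact ⟨⁅x, y⁆, commutator_mem_commutator (mem_top _) (mem_top _), map_commutatorElement π x y⟩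
  have hg1 : π g ≠ 1 := fun h => hs.not_mem ((hπ g).mp h)
  have hgV : π g ∈ V := mem_map_of_mem _ hs.mem
  have hVconj : ∀ v ∈ V, v ≠ 1 → ∃ a, a * π g * a⁻¹ = v := by
    rintro _ ⟨x, hx, rfl⟩ hv
    obtain ⟨c, rfl⟩ := isConj_iff.mp (hs.conj x hx fun h => hv ((hπ x).mpr h))
    exact ⟨π c, by simp⟩
  -- trivial centre
  have hZ : ∀ z : G ⧸ K, (∀ a, z * a = a * z) → z = 1 := by
    intro z hz
    obtain ⟨x, rfl⟩ := hπs z
    have hxD : x ∈ D := hs.central x fun y => (hπ _).mp (by
      rw [map_commutatorElement, commutatorElement_eq_one_iff_mul_comm]; exact hz _)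
    by_contra hx1
    refine hA fun y => (hπ _).mp ?_
    obtain ⟨a, ha⟩ := hVconj _ (mem_map_of_mem _ hxD) hx1
    rw [map_commutatorElement, commutatorElement_eq_one_iff_mul_comm]
    have hgx : π g = π x := by
      calc π g = a⁻¹ * (π x * a) := by rw [← ha]; group
        _ = π x := by rw [hz a, inv_mul_cancel_left]
    rw [hgx]
    exact hz _
  -- fixing one element of `V` means centralising `V`
  have hfix : ∀ t v, v ∈ V → v ≠ 1 → t * v = v * t → ∀ w ∈ V, t * w = w * t := by
    intro t v hv hv1 htv w hw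
    by_cases hw1 : w = 1
    · rw [hw1, mul_one, one_mul]
    obtain ⟨a, ha⟩ := hVconj v hv hv1
    obtain ⟨b, hb⟩ := hVconj w hw hw1
    set c := b * a⁻¹ with hc
    have hcw : c * v * c⁻¹ = w := by rw [← hb, ← ha, hc]; group
    have h1 : Commute (⁅c⁻¹, t⁆ * t) v := Commute.mul_left (hVc _ (hcommV _ _) v hv) htv
    have h2 : Commute (c⁻¹ * t * c) v := by
      rwa [show ⁅c⁻¹, t⁆ * t = c⁻¹ * t * c by simp only [commutatorElement_def]; group] at h1
    rw [← hcw]
    calc t * (c * v * c⁻¹) = c * ((c⁻¹ * t * c) * v) * c⁻¹ := by group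
      _ = c * (v * (c⁻¹ * t * c)) * c⁻¹ := by rw [h2.eq]
      _ = _ := by group
  -- some `t` moves `V`
  obtain ⟨y₀, hy₀⟩ := not_forall.mp hA
  set t := π y₀ with ht
  have htmove : ∀ v ∈ V, t * v = v * t → v = 1 := by
    intro v hv htv
    by_contra hv1
    refine hy₀ ((hπ _).mp ?_)
    rw [map_commutatorElement, commutatorElement_eq_one_iff_mul_comm]
    exact (hfix t v hv hv1 htv _ hgV).symm
  -- `C(V) = V`
  have hU : ∀ z : G ⧸ K, (∀ v ∈ V, z * v = v * z) → z ∈ V := by
    have hvt : ∀ v : V, (v : G ⧸ K) * (t * (v : G ⧸ K)⁻¹ * t⁻¹) ∈ V := fun v => by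
      have h := hcommV t ((v : G ⧸ K)⁻¹)
      rw [commutatorElement_def, inv_inv] at h
      rw [hVc _ v.2 _ ?_]
      · exact h
      · have := V.mul_mem h (V.inv_mem v.2)
        simpa [mul_assoc] using this
    have hsplit : ∀ z : G ⧸ K, (∀ v ∈ V, z * v = v * z) →
        ∃ v ∈ V, t * (z * v) = (z * v) * t := by
      intro z hz
      obtain ⟨v, hv⟩ := Finite.surjective_of_injective
        (f := fun v : V => (⟨(v : G ⧸ K) * (t * (v : G ⧸ K)⁻¹ * t⁻¹), hvt v⟩ : V))
        (fun a b h => by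
          have h1 : (a : G ⧸ K) * (t * (a : G ⧸ K)⁻¹ * t⁻¹) =
              (b : G ⧸ K) * (t * (b : G ⧸ K)⁻¹ * t⁻¹) := congrArg Subtype.val h
          have h2 : t * ((b : G ⧸ K)⁻¹ * a) = ((b : G ⧸ K)⁻¹ * a) * t := by
            have h3 := congrArg (fun z => (b : G ⧸ K)⁻¹ * z * t * a) h1
            simpa [mul_assoc] using h3.symm
          exact Subtype.ext (inv_mul_eq_one.mp (htmove _ (V.mul_mem (V.inv_mem b.2) a.2) h2)).symm)
        ⟨⁅t, z⁆, hcommV t z⟩
      have hv' : (v : G ⧸ K) * (t * (v : G ⧸ K)⁻¹ * t⁻¹) = ⁅t, z⁆ := congrArg Subtype.val hv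
      refine ⟨v, v.2, ?_⟩
      have h1 : t * z = ⁅t, z⁆ * z * t := by rw [commutatorElement_def]; group
      have hW : t * (v : G ⧸ K) * t⁻¹ * ⁅t, z⁆ = v := by
        rw [hVc _ ?_ _ (hcommV t z), ← hv']
        · group
        · have h := V.mul_mem (hcommV t (v : G ⧸ K)) v.2
          simpa [commutatorElement_def, mul_assoc] using h
      calc t * (z * v) = ⁅t, z⁆ * z * (t * v * t⁻¹) * t := by
            rw [← mul_assoc, h1]; group
        _ = z * (t * v * t⁻¹ * ⁅t, z⁆) * t := by
            have hc1 := hz _ (hcommV t z)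
            have hc2 : t * (v : G ⧸ K) * t⁻¹ ∈ V := by
              have h := V.mul_mem (hcommV t (v : G ⧸ K)) v.2
              simpa [commutatorElement_def, mul_assoc] using h
            rw [← hc1, mul_assoc z, hVc _ (hcommV t z) _ hc2, mul_assoc z]
        _ = _ := by rw [hW]
    have hUab : ∀ a b : G ⧸ K, (∀ v ∈ V, a * v = v * a) → (∀ v ∈ V, b * v = v * b) →
        t * a = a * t → t * b = b * t → a * b = b * a := by
      intro a b _ _ hta htb
      rw [← commutatorElement_eq_one_iff_mul_comm]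
      refine htmove _ (hcommV a b) ?_
      have h1 : t * ⁅a, b⁆ * t⁻¹ = ⁅a, b⁆ := by
        rw [show t * ⁅a, b⁆ * t⁻¹ = ⁅t * a * t⁻¹, t * b * t⁻¹⁆ from
          map_commutatorElement (MulAut.conj t).toMonoidHom a b, hta, htb, mul_inv_cancel_right,
          mul_inv_cancel_right]
      exact mul_inv_eq_iff_eq_mul.mp h1
    -- elements of `C(V)` fixed by `t` are central
    have hfixed : ∀ z : G ⧸ K, (∀ v ∈ V, z * v = v * z) → t * z = z * t → z = 1 := by
      intro z hz htz
      refine hZ z fun a => ?_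
      have hdV : ⁅a, z⁆ ∈ V := hcommV a z
      have hd : ∀ v ∈ V, a * z * a⁻¹ * v = v * (a * z * a⁻¹) := by
        intro v hv
        have h3 : Commute (⁅a, z⁆ * z) v := Commute.mul_left (hVc _ hdV v hv) (hz v hv)
        rwa [show ⁅a, z⁆ * z = a * z * a⁻¹ by simp only [commutatorElement_def]; group] at h3
      have hw : ⁅t, a⁆ ∈ V := hcommV t a
      -- `t` fixes `a z a⁻¹`
      have h4 : t * (a * z * a⁻¹) = a * z * a⁻¹ * t := by
        have h5 : t * (a * z * a⁻¹) * t⁻¹ = ⁅t, a⁆ * (a * z * a⁻¹) * ⁅t, a⁆⁻¹ := by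
          rw [commutatorElement_def]
          calc t * (a * z * a⁻¹) * t⁻¹ = t * a * z * (a⁻¹ * t⁻¹) := by group
            _ = t * a * (t⁻¹ * z * t) * (a⁻¹ * t⁻¹) := by
                rw [mul_assoc t⁻¹, ← htz, inv_mul_cancel_left]
            _ = _ := by group
        rw [← hd _ hw, mul_inv_cancel_right] at h5
        exact mul_inv_eq_iff_eq_mul.mp h5
      have h6 : t * ⁅a, z⁆ = ⁅a, z⁆ * t := by
        rw [show ⁅a, z⁆ = a * z * a⁻¹ * z⁻¹ from commutatorElement_def a z]
        exact ((show Commute t (a * z * a⁻¹) from h4).mul_right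
          ((show Commute t z from htz).inv_right)).eq
      exact (commutatorElement_eq_one_iff_mul_comm.mp (htmove _ hdV h6)).symm
    intro z hz
    obtain ⟨v, hv, htv⟩ := hsplit z hz
    have h1 := hfixed (z * v) (fun w hw => by
      rw [mul_assoc, hVc v hv w hw, ← mul_assoc, hz w hw, mul_assoc]) htv
    rw [eq_inv_of_mul_eq_one_left h1]
    exact V.inv_mem hv
  have hstab : ∀ y : G ⧸ K, y * π g = π g * y → y ∈ V := fun y hy =>
    hU y fun v hv => hfix y _ hgV hg1 hy v hv
  -- counting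
  set m := Nat.card V with hm
  have hCQ : centralizer ({π g} : Set (G ⧸ K)) = V := by
    ext y
    rw [mem_centralizer_singleton_iff]
    exact ⟨hstab y, fun hy => hVc _ hy _ hgV⟩
  have hcl : (ConjClasses.mk (π g)).carrier = (V : Set (G ⧸ K)) \ {1} := by
    ext v
    rw [ConjClasses.mem_carrier_iff_mk_eq, ConjClasses.mk_eq_mk_iff_isConj]
    constructor
    · intro h
      obtain ⟨c, rfl⟩ := isConj_iff.mp h.symm
      refine ⟨?_, fun h1 => hg1 ?_⟩
      · have h2 := V.mul_mem (hcommV c (π g)) hgV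
        simpa [commutatorElement_def, mul_assoc] using h2
      · have h2 : c * π g * c⁻¹ = 1 := h1
        have h3 := congrArg (fun z => c⁻¹ * z * c) h2
        simpa [mul_assoc] using h3
    · rintro ⟨hv, hv1⟩
      obtain ⟨a, ha⟩ := hVconj v hv hv1
      exact (isConj_iff.mpr ⟨a, ha⟩).symm
  have hVidx : V.index = m - 1 := by
    rw [← hCQ, ← CfsgLib.Char.card_carrier_eq_index, Nat.card_coe_set_eq, hcl,
      Set.ncard_sdiff (by simp) (Set.toFinite _), Set.ncard_singleton, ← Nat.card_coe_set_eq]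
    rfl
  have hDcard : Nat.card D = m * Nat.card K := by
    have h := Subgroup.card_mul_index (K.subgroupOf D)
    rw [Nat.card_congr (Subgroup.subgroupOfEquivOfLe hs.le).toEquiv] at h
    have he : (K.subgroupOf D).index = m := by
      rw [hm, hV, show K.subgroupOf D = (π.comp D.subtype).ker by
        ext x; exact (hπ _).symm, Subgroup.index_ker, MonoidHom.range_comp, Subgroup.range_subtype]
    rw [← h, he, mul_comm]
  have hGcard : Nat.card G = Nat.card K * (m * (m - 1)) := by
    rw [← K.card_mul_index, Subgroup.index_eq_card, ← V.card_mul_index, hVidx]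
  have hm1 : 1 < m := by
    haveI : Nontrivial V := ⟨⟨⟨π g, hgV⟩, 1, fun h => hg1 (congrArg Subtype.val h)⟩⟩
    exact Finite.one_lt_card
  have hC : Nat.card (centralizer ({g} : Set G)) = m := by
    have h := hs.card_centralizer
    rw [← hDdef, hDcard, ← Nat.sub_one_mul, hGcard] at h
    refine Nat.eq_of_mul_eq_mul_right (Nat.mul_pos (Nat.sub_pos_of_lt hm1) (Nat.card_pos (α := K))) ?_
    rw [h]; ring
  have hVp : IsPGroup p V := by
    rintro ⟨v, x, hx, rfl⟩
    refine ⟨1, Subtype.ext ?_⟩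
    show π x ^ p ^ 1 = 1
    rw [pow_one, ← map_pow, hπ]
    exact hpK x hx
  obtain ⟨f, hf⟩ := IsPGroup.iff_card.mp hVp
  have hCp : IsPGroup p (centralizer ({g} : Set G)) := IsPGroup.of_card (hC.trans hf)
  have hfpos : 0 < f := Nat.pos_of_ne_zero fun h => by rw [hm, hf, h, pow_zero] at hm1; omega
  have hpm : ¬ p ∣ m - 1 := by
    intro h
    have h2 : p ∣ m := hm.symm ▸ hf.symm ▸ dvd_pow_self p hfpos.ne'
    exact hp.not_dvd_one (by simpa [Nat.sub_sub_self hm1.le] using Nat.dvd_sub h2 h)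
  obtain ⟨k, hk⟩ := hpel g hs.mem hs.not_mem
  obtain ⟨P, hP⟩ := IsPGroup.exists_le_sylow (show IsPGroup p (zpowers g) from fun x => by
    obtain ⟨j, hj⟩ := x.2
    refine ⟨k, Subtype.ext ?_⟩
    have hj' : g ^ j = (x : G) := hj
    rw [SubgroupClass.coe_pow, ← hj', ← zpow_natCast, ← zpow_mul, mul_comm, zpow_mul, zpow_natCast,
      hk, one_zpow]
    rfl)
  have hgP : g ∈ (P : Subgroup G) := hP (mem_zpowers g)
  have hDidx : D.index = m - 1 := by
    refine Nat.eq_of_mul_eq_mul_left (show 0 < Nat.card D from Nat.card_pos) ?_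
    rw [D.card_mul_index, hGcard, hDcard]; ring
  have hPD : (P : Subgroup G) ≤ D := by
    intro x hx
    obtain ⟨j, hj⟩ := P.isPGroup' ⟨x, hx⟩
    have h1 : orderOf (QuotientGroup.mk x : G ⧸ D) ∣ p ^ j := by
      refine (orderOf_map_dvd (QuotientGroup.mk' D) x).trans (orderOf_dvd_of_pow_eq_one ?_)
      exact congrArg Subtype.val hj
    have h2 : orderOf (QuotientGroup.mk x : G ⧸ D) ∣ m - 1 := by
      rw [← hDidx, Subgroup.index_eq_card]; exact orderOf_dvd_natCard _
    rw [← QuotientGroup.eq_one_iff, ← orderOf_eq_one_iff]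
    exact Nat.eq_one_of_dvd_coprimes (((hp.coprime_iff_not_dvd).mpr hpm).pow_left j) h1 h2
  have hPcard : m * Nat.card ((P : Subgroup G) ⊓ K : Subgroup G) ≤ Nat.card (P : Subgroup G) := by
    refine (Nat.mul_le_mul_left m (Nat.le_of_dvd (pow_pos hp.pos _) (card_inf_le K))).trans
      (le_of_eq ?_)
    rw [P.card_eq_multiplicity, hGcard, Nat.factorization_mul Nat.card_pos.ne'
      (Nat.mul_ne_zero (by omega) (by omega)), Nat.factorization_mul (by omega) (by omega),
      Finsupp.add_apply, Finsupp.add_apply, Nat.factorization_eq_zero_of_not_dvd hpm, add_zero,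
      pow_add, mul_comm]
    congr 1
    rw [hm, hf, hp.factorization_pow, Finsupp.single_eq_same]
  have hPx : ∀ x ∈ (P : Subgroup G), x ∉ K → ∀ r ∈ (P : Subgroup G) ⊓ K,
      ∃ y ∈ (P : Subgroup G), ⁅y, x⁆ = r := by
    intro x hx hxK
    refine mem_commutators hx (fun y hy => hab _ (hPD hy) _ (hPD hx)) ?_
    obtain ⟨c, hc⟩ := isConj_iff.mp (hs.conj x (hPD hx) hxK)
    have hCx : Nat.card (centralizer ({x} : Set G)) = m := by
      refine Nat.eq_of_mul_eq_mul_right (Nat.pos_of_ne_zero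
        (Subgroup.index_ne_zero_of_finite (H := centralizer ({x} : Set G)))) ?_
      rw [Subgroup.card_mul_index, ← (centralizer ({g} : Set G)).card_mul_index, hC]
      congr 1
      rw [← CfsgLib.Char.card_carrier_eq_index, ← CfsgLib.Char.card_carrier_eq_index,
        ConjClasses.mk_eq_mk_iff_isConj.mpr (isConj_iff.mpr ⟨c, hc⟩)]
    rw [hCx]
    exact hPcard
  refine isSolvable_end hs hab P hgP (hPx g hgP hs.not_mem) hCp ?_
  -- the operator
  set P' : Subgroup G := (P : Subgroup G)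
  have hR : ∀ x : P', x ∈ commutator P' ↔ (x : G) ∈ K := by
    intro x
    constructor
    · intro hx
      have h : commutator P' ≤ K.subgroupOf P' := Subgroup.commutator_le.mpr fun a _ b _ =>
        hab _ (hPD a.2) _ (hPD b.2)
      exact h hx
    · intro hx
      obtain ⟨y, hy, hyx⟩ := hPx g hgP hs.not_mem (x : G) ⟨x.2, hx⟩
      have h : x = ⁅(⟨y, hy⟩ : P'), (⟨g, hgP⟩ : P')⁆ := Subtype.ext hyx.symm
      rw [h]
      exact commutator_mem_commutator (mem_top _) (mem_top _)
  haveI hVn : V.Normal := (inferInstance : D.Normal).map π hπs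
  haveI : Nontrivial V := ⟨⟨⟨π g, hgV⟩, 1, fun h => hg1 (congrArg Subtype.val h)⟩⟩
  letI : CommGroup V :=
    { (inferInstance : Group V) with mul_comm := fun a b => Subtype.ext (hVc a a.2 b b.2) }
  letI : CommGroup ((G ⧸ K) ⧸ V) :=
    { (inferInstance : Group ((G ⧸ K) ⧸ V)) with
      mul_comm := fun a b => by
        obtain ⟨x, rfl⟩ := QuotientGroup.mk_surjective a
        obtain ⟨y, rfl⟩ := QuotientGroup.mk_surjective b
        rw [← QuotientGroup.mk_mul, ← QuotientGroup.mk_mul, QuotientGroup.eq]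
        rw [show (x * y)⁻¹ * (y * x) = ⁅y⁻¹, x⁻¹⁆ by rw [commutatorElement_def]; group]
        exact hcommV _ _ }
  let ρ : (G ⧸ K) ⧸ V →* MulAut V := QuotientGroup.lift V MulAut.conjNormal fun v hv => by
    rw [MonoidHom.mem_ker]
    ext w
    rw [MulAut.conjNormal_apply, hVc v hv _ w.2, mul_inv_cancel_right]
    rfl
  haveI hcyc : IsCyclic ((G ⧸ K) ⧸ V) := by
    refine CfsgLib.NoDiv.isCyclic_of_fpf ρ fun a ha v hv => ?_
    obtain ⟨y, rfl⟩ := QuotientGroup.mk_surjective a
    by_contra hv1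
    refine ha ((QuotientGroup.eq_one_iff y).mpr ?_)
    have h1 : y * (v : G ⧸ K) * y⁻¹ = v := by
      rw [← MulAut.conjNormal_apply]; exact congrArg Subtype.val hv
    exact hU y (hfix y v v.2 (fun h => hv1 (Subtype.ext h)) (mul_inv_eq_iff_eq_mul.mp h1))
  obtain ⟨γ, hγ⟩ := hcyc.exists_generator
  obtain ⟨c₁, hc₁⟩ := QuotientGroup.mk_surjective γ
  obtain ⟨c₀, rfl⟩ := hπs c₁
  obtain ⟨h, hh, hcD'⟩ : ∃ h ∈ normalizer (P' : Set G), h⁻¹ * c₀ ∈ D := by
    have htop : normalizer (P' : Set G) ⊔ D = ⊤ := Sylow.normalizer_sup_eq_top' P hPD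
    have hm' : c₀ ∈ D ⊔ normalizer (P' : Set G) := by
      rw [sup_comm, htop]; exact mem_top _
    rw [← SetLike.mem_coe, Subgroup.normal_mul] at hm'
    obtain ⟨d, hd, h, hh, rfl⟩ := Set.mem_mul.mp hm'
    refine ⟨h, hh, ?_⟩
    simpa [mul_assoc] using (inferInstance : D.Normal).conj_mem d hd h⁻¹
  have hγ' : γ = QuotientGroup.mk (π h) := by
    rw [← hc₁, QuotientGroup.eq]
    have h2 : (π c₀)⁻¹ * π h ∈ V := by
      rw [← map_inv, ← map_mul]
      refine mem_map_of_mem _ ?_
      have := D.inv_mem hcD'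
      simpa using this
    exact h2
  let α : P' ≃* P' :=
    { toFun := fun x => ⟨h * x * h⁻¹, (mem_normalizer_iff.mp hh x).mp x.2⟩
      invFun := fun x => ⟨h⁻¹ * x * h, (mem_normalizer_iff''.mp hh x).mp x.2⟩
      left_inv := fun x => Subtype.ext (by simp [mul_assoc])
      right_inv := fun x => Subtype.ext (by simp [mul_assoc])
      map_mul' := fun a b => Subtype.ext (by simp [mul_assoc]) }
  have hαk : ∀ (n : ℕ) (x : P'), (((⇑α)^[n] x : P') : G) = h ^ n * x * (h ^ n)⁻¹ := by
    intro n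
    induction n with
    | zero => intro x; simp
    | succ n ih =>
      intro x
      rw [Function.iterate_succ_apply']
      show h * _ * h⁻¹ = _
      rw [ih, pow_succ']
      simp [mul_assoc]
  have hyp : Camina.Hyp P' p α := by
    refine ⟨fun x hx r hr => ?_, fun x => ?_, fun x y hx hy => ?_⟩
    · obtain ⟨y, hy, hyr⟩ := hPx x x.2 (fun hK => hx ((hR x).mpr hK)) ((r⁻¹ : P') : G)
        ⟨(r⁻¹ : P').2, K.inv_mem ((hR r).mp hr)⟩
      refine ⟨⟨y, hy⟩, Subtype.ext ?_⟩
      show ⁅(x : G), y⁆ = r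
      rw [← commutatorElement_inv, hyr]
      simp
    · exact (hR _).mpr (hpK _ (hPD x.2))
    · have hxV : π (x : G) ∈ V := mem_map_of_mem _ (hPD x.2)
      have hyV : π (y : G) ∈ V := mem_map_of_mem _ (hPD y.2)
      have hx1 : π (x : G) ≠ 1 := fun e => hx ((hR x).mpr ((hπ _).mp e))
      have hy1 : π (y : G) ≠ 1 := fun e => hy ((hR y).mpr ((hπ _).mp e))
      obtain ⟨a, ha⟩ := hVconj _ hxV hx1
      obtain ⟨b, hb⟩ := hVconj _ hyV hy1
      obtain ⟨n, hn⟩ : ∃ n : ℕ, (QuotientGroup.mk (π h) : (G ⧸ K) ⧸ V) ^ n =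
          QuotientGroup.mk (b * a⁻¹) := by
        rw [← hγ']
        exact ((isOfFinOrder_of_finite γ).mem_powers_iff_mem_zpowers.mpr (hγ _))
      refine ⟨n, (hR _).mpr ?_⟩
      rw [← hπ, Subgroup.coe_mul, Subgroup.coe_inv, hαk, map_mul, map_inv, inv_mul_eq_one]
      have h1 : ρ (QuotientGroup.mk (π h) ^ n) ⟨π x, hxV⟩ = ρ (QuotientGroup.mk (b * a⁻¹)) ⟨π x, hxV⟩ := by
        rw [hn]
      rw [← QuotientGroup.mk_pow] at h1
      have h2 : (π h) ^ n * π (x : G) * ((π h) ^ n)⁻¹ = (b * a⁻¹) * π (x : G) * (b * a⁻¹)⁻¹ := by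
        have h3 := congrArg Subtype.val h1
        simpa only [ρ, QuotientGroup.lift_mk, MulAut.conjNormal_apply] using h3
      rw [map_mul, map_mul, map_inv, map_pow, h2, ← ha, ← hb]
      group
  obtain ⟨h1, h2⟩ := Camina.pow_eq_one hyp P.isPGroup' ⟨g, hgP⟩
  by_cases hp2 : p = 2
  · left
    subst hp2
    exact congrArg Subtype.val h1
  · right
    exact congrArg Subtype.val (h2 hp2)

theorem Setup.isSolvable (hs : Setup K g) : Group.IsSolvable G := by
  by_cases hB : ∀ x, ⁅g, x⁆ ∈ K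
  · exact isSolvable_central hs hB
  · exact isSolvable_noncentral hs hB

end CfsgLib.OneNonlinear
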