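import Mathlib.FieldTheory.Finite.Basic
import Mathlib.FieldTheory.Minpoly.IsConjRoot
import Mathlib.FieldTheory.Finite.GaloisField
import Mathlib.RingTheory.IntegralDomain
import Mathlib.LinearAlgebra.Dimension.Finite

/-!
# Equivariant pairings for a Singer cycle

`s` permutes the nonzero vectors of the finite `F_p`-space `V` transitively.  An equivariant
pairing of `V` onto a smaller space forces `dim V = 2n`, and `s ^ (pⁿ - 1)` fixes the target;
this power has no invariant subspace in `V`, so equivariant `T : V → Z → Y` with small `Y` vanishes.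
-/

set_option autoImplicit false
set_option linter.all false
set_option maxHeartbeats 400000

namespace CfsgLib.OneNonlinear.Layers

open Module Polynomial

variable {p : ℕ} [hp : Fact p.Prime]

/-- An operator without invariant subspaces generates a field of the size of the space. -/
theorem isField_adjoin {V : Type*} [AddCommGroup V] [Module (ZMod p) V] [Finite V] [Nontrivial V]
    (s : Module.End (ZMod p) V)
    (hsimp : ∀ W : Submodule (ZMod p) V, (∀ w ∈ W, s w ∈ W) → W = ⊥ ∨ W = ⊤) :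
    IsField (Algebra.adjoin (ZMod p) {s}) ∧
      ∀ v₀ : V, v₀ ≠ 0 → Function.Bijective fun a : Algebra.adjoin (ZMod p) {s} =>
        (a : Module.End (ZMod p) V) v₀ := by
  set A := Algebra.adjoin (ZMod p) {s} with hA
  have hcomm : ∀ a b : A, a * b = b * a := fun a b => by
    apply Subtype.ext
    have h : A ≤ Subalgebra.centralizer (ZMod p) {(a : Module.End (ZMod p) V)} := by
      refine Algebra.adjoin_le ?_
      rintro x (rfl : x = s)
      rintro y (rfl : y = (a : Module.End (ZMod p) V))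
      have h' : A ≤ Subalgebra.centralizer (ZMod p) {x} := by
        refine Algebra.adjoin_le ?_
        rintro z (rfl : z = x)
        rintro w (rfl : w = z)
        rfl
      exact ((h' a.2) x rfl).symm
    exact (h b.2) _ rfl
  have hs : ∀ a : A, ∀ v, s ((a : Module.End (ZMod p) V) v) = (a : Module.End (ZMod p) V) (s v) :=
    fun a v => LinearMap.congr_fun (congrArg Subtype.val
      (hcomm ⟨s, Algebra.subset_adjoin rfl⟩ a)) v
  have hinj : ∀ a : A, a ≠ 0 → Function.Injective (a : Module.End (ZMod p) V) := by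
    intro a ha
    rw [← LinearMap.ker_eq_bot]
    refine (hsimp _ fun w hw => ?_).resolve_right fun h => ha (Subtype.ext
      (LinearMap.ker_eq_top.mp h))
    rw [LinearMap.mem_ker] at hw ⊢
    rw [← hs, hw, map_zero]
  haveI : Finite (Module.End (ZMod p) V) :=
    Finite.of_injective (fun f => (f : V → V)) DFunLike.coe_injective
  letI : CommRing A := { (inferInstance : Ring A) with mul_comm := hcomm }
  haveI : NoZeroDivisors A := ⟨fun {a b} hab => by
    rcases eq_or_ne a 0 with ha | ha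
    · exact Or.inl ha
    · refine Or.inr (Subtype.ext (LinearMap.ext fun v => hinj a ha ?_))
      have h2 := LinearMap.congr_fun (congrArg Subtype.val hab) v
      simpa using h2⟩
  obtain ⟨v₁, hv₁⟩ := exists_ne (0 : V)
  haveI : Nontrivial A := ⟨⟨0, 1, fun h => hv₁ (by
    have := LinearMap.congr_fun (congrArg Subtype.val h) v₁
    simpa using this.symm)⟩⟩
  haveI : IsDomain A := NoZeroDivisors.to_isDomain A
  refine ⟨Finite.isField_of_domain A, fun v₀ hv₀ => ⟨fun a b hab => ?_, ?_⟩⟩
  · by_contra hne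
    refine hv₀ (hinj (a - b) (sub_ne_zero.mpr hne) ?_)
    have hab' : (a : Module.End (ZMod p) V) v₀ = (b : Module.End (ZMod p) V) v₀ := hab
    simp [hab']
  · let ev : A →ₗ[ZMod p] V :=
      { toFun := fun a => (a : Module.End (ZMod p) V) v₀
        map_add' := fun _ _ => rfl
        map_smul' := fun _ _ => rfl }
    rcases hsimp (LinearMap.range ev) (by
        rintro _ ⟨a, rfl⟩
        exact ⟨⟨s, Algebra.subset_adjoin rfl⟩ * a, rfl⟩) with h | h
    · exact absurd (LinearMap.range_eq_bot.mp h ▸ (show ev 1 = v₀ from rfl)) (by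
        simpa [eq_comm] using hv₀)
    · exact LinearMap.range_eq_top.mp h

section Field

variable {F : Type*} [Field F] [Fintype F] [Algebra (ZMod p) F]

/-- A linear map from the field to a smaller space, equivariant for an element of large order,
vanishes. -/
theorem eq_zero_of_equivariant {n : ℕ} (hF : Nat.card F ≤ p ^ (2 * n)) {t : F}
    (ht0 : t ≠ 0) (ht : ∀ e, 0 < e → t ^ e = 1 → p ^ n < e + 1)
    {Y : Type*} [AddCommGroup Y] [Module (ZMod p) Y] [Finite Y] (hY : Nat.card Y < Nat.card F)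
    (L : F →ₗ[ZMod p] Y) (ρ : Y →+ Y) (hL : ∀ a, L (t * a) = ρ (L a)) : L = 0 := by
  classical
  let E : Subalgebra (ZMod p) F :=
    { carrier := {c | ∀ a, L a = 0 → L (c * a) = 0}
      mul_mem' := fun {x y} hx hy a ha => by rw [mul_assoc]; exact hx _ (hy a ha)
      one_mem' := fun a ha => by rwa [one_mul]
      add_mem' := fun {x y} hx hy a ha => by rw [add_mul, map_add, hx a ha, hy a ha, add_zero]
      zero_mem' := fun a ha => by rw [zero_mul, map_zero]
      algebraMap_mem' := fun r a ha => by rw [← Algebra.smul_def, map_smul, ha, smul_zero] }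
  have htE : t ∈ E := fun a ha => by rw [hL, ha, map_zero]
  by_cases hE : E = ⊤
  · by_contra hne
    obtain ⟨a, ha, ha0⟩ : ∃ a, L a = 0 ∧ a ≠ 0 := by
      by_contra h
      push Not at h
      exact absurd (Nat.card_le_card_of_injective L ((injective_iff_map_eq_zero L).mpr h))
        (not_le.mpr hY)
    refine hne (LinearMap.ext fun b => ?_)
    have hb : b / a ∈ E := hE ▸ Algebra.mem_top
    simpa [div_mul_cancel₀ b ha0] using hb a ha
  · exfalso
    apply hE
    haveI : IsDomain E := inferInstance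
    haveI : Fintype E := Fintype.ofFinite E
    letI : Field E := (Finite.isField_of_domain E).toField
    have hcard : Nat.card F = Nat.card E ^ Module.finrank E F :=
      Module.natCard_eq_pow_finrank (K := E) (V := F)
    have ht1 : (⟨t, htE⟩ : E) ^ (Nat.card E - 1) = 1 := by
      rw [Nat.card_eq_fintype_card]
      exact FiniteField.pow_card_sub_one_eq_one _ fun h => ht0 (congrArg Subtype.val h)
    have h1 : 1 < Nat.card E := Finite.one_lt_card
    have h2 := ht (Nat.card E - 1) (by omega) (by simpa using congrArg Subtype.val ht1)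
    have hfr : Module.finrank E F = 1 := by
      have h3 : 0 < Module.finrank E F := Module.finrank_pos
      by_contra h4
      have h5 : Nat.card E ^ 2 ≤ Nat.card F := hcard ▸ Nat.pow_le_pow_right (by omega) (by omega)
      have h6 : (p ^ n + 1) ^ 2 ≤ Nat.card E ^ 2 := Nat.pow_le_pow_left (by omega) 2
      rw [Nat.mul_comm 2 n, pow_mul] at hF
      have h7 : (p ^ n) ^ 2 < (p ^ n + 1) ^ 2 := Nat.pow_lt_pow_left (by omega) two_ne_zero
      omega
    rw [hfr, pow_one] at hcard
    rw [eq_top_iff]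
    intro x _
    obtain ⟨y, hy⟩ := ((Nat.bijective_iff_injective_and_card (Subtype.val : E → F)).mpr
      ⟨Subtype.val_injective, hcard.symm⟩).2 x
    exact hy ▸ y.2

theorem num {p f d i : ℕ} (hp : 1 < p) (hdf : d < f) (hd : 0 < d) (hi : 2 * i ≤ f)
    (h : p ^ f - 1 ∣ (p ^ d - 1) * (p ^ i + 1)) : f = 2 * i ∧ d = i := by
  set e := Nat.gcd f d with he
  have hgcd : Nat.gcd (p ^ f - 1) (p ^ d - 1) = p ^ e - 1 := Nat.pow_sub_one_gcd_pow_sub_one p f d
  have hdiv : p ^ f - 1 ∣ (p ^ e - 1) * (p ^ i + 1) := by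
    rw [← hgcd]
    exact (Nat.dvd_gcd_mul_iff_dvd_mul).mpr h
  have he0 : 0 < e := Nat.gcd_pos_of_pos_right _ hd
  have hed : e ≤ d := Nat.le_of_dvd hd (Nat.gcd_dvd_right _ _)
  obtain ⟨c, hc⟩ : e ∣ f := Nat.gcd_dvd_left _ _
  have h2e : 2 * e ≤ f := by
    rcases Nat.lt_or_ge c 2 with hc2 | hc2
    · interval_cases c <;> omega
    · rw [hc]; nlinarith
  by_cases hsum : e + i = f
  · refine ⟨by omega, ?_⟩
    obtain ⟨c', hc'⟩ : e ∣ d := Nat.gcd_dvd_right _ _
    rcases Nat.lt_or_ge c' 2 with hc2 | hc2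
    · interval_cases c' <;> omega
    · have h3 := Nat.mul_le_mul_left e hc2
      omega
  · exfalso
    have hpe : 1 < p ^ e := Nat.one_lt_pow he0.ne' hp
    have hle := Nat.le_of_dvd (Nat.mul_pos (by omega) (by positivity)) hdiv
    have h3 : p ^ (e + i) * p ≤ p ^ f := by
      rw [← pow_succ]; exact Nat.pow_le_pow_right (by omega) (by omega)
    have h4 : p ^ e * p ≤ p ^ f := by
      rw [← pow_succ]; exact Nat.pow_le_pow_right (by omega) (by omega)
    rw [pow_add] at h3
    have h5 : 1 ≤ p ^ i := Nat.one_le_pow _ _ (by omega)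
    obtain ⟨u, hu⟩ : ∃ u, p ^ e = u + 1 := ⟨p ^ e - 1, by omega⟩
    rw [hu, Nat.add_sub_cancel] at hle
    rw [hu] at h3 h4
    have h6 : p ^ f ≤ u * (p ^ i + 1) + 1 := by
      have := Nat.one_le_pow f p (by omega)
      omega
    nlinarith [Nat.mul_le_mul_left ((u + 1) * p ^ i) hp, Nat.mul_le_mul_left (u + 1) hp]

variable (ω : F) (hω : ∀ a : F, a ≠ 0 → ∃ k : ℕ, ω ^ k = a)
  {Z : Type*} [AddCommGroup Z] [Module (ZMod p) Z] [Finite Z] (σ : Module.End (ZMod p) Z)
  (B : F →ₗ[ZMod p] F →ₗ[ZMod p] Z) (hB : ∀ a b, B (ω * a) (ω * b) = σ (B a b))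
  (honto : ∀ a, a ≠ 0 → Function.Surjective (B a)) (hZ : Nat.card Z < Nat.card F)

omit [Finite Z] hω honto hZ in
include hB in
theorem pow_apply (k : ℕ) (a b : F) : (σ ^ k) (B a b) = B (ω ^ k * a) (ω ^ k * b) := by
  induction k with
  | zero => simp
  | succ k ih =>
    rw [pow_succ', Module.End.mul_apply, ih, ← hB, pow_succ', mul_assoc, mul_assoc]

include hω in
theorem order_generator {e : ℕ} (he : ω ^ e = 1) (hω0 : ω ≠ 0) : Nat.card F - 1 ∣ e := by
  classical
  rw [Nat.card_eq_fintype_card, ← Fintype.card_units,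
    ← Nat.card_eq_fintype_card, ← orderOf_eq_card_of_forall_mem_zpowers (g := Units.mk0 ω hω0) ?_]
  · exact orderOf_dvd_of_pow_eq_one (Units.ext (by simpa using he))
  · intro u
    obtain ⟨k, hk⟩ := hω u u.ne_zero
    exact ⟨(k : ℤ), Units.ext (by simpa using hk)⟩

include hω hB honto hZ in
/-- The simple case. -/
theorem pow_eq_one_of_simple [Nontrivial Z] (hω0 : ω ≠ 0)
    (hsimp : ∀ W : Submodule (ZMod p) Z, (∀ w ∈ W, σ w ∈ W) → W = ⊥ ∨ W = ⊤) :
    ∃ n, 0 < n ∧ Nat.card F = p ^ (2 * n) ∧ σ ^ (p ^ n - 1) = 1 := by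
  classical
  haveI : CharP F p := charP_of_injective_algebraMap (algebraMap (ZMod p) F).injective p
  set f := Module.finrank (ZMod p) F with hf
  set d := Module.finrank (ZMod p) Z with hd
  have hcF : Nat.card F = p ^ f := by
    rw [Module.natCard_eq_pow_finrank (K := ZMod p) (V := F), Nat.card_zmod]
  have hcZ : Nat.card Z = p ^ d := by
    rw [Module.natCard_eq_pow_finrank (K := ZMod p) (V := Z), Nat.card_zmod]
  have hdf : d < f := by
    rw [hcF, hcZ] at hZ
    exact (Nat.pow_lt_pow_iff_right hp.out.one_lt).mp hZ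
  have hd0 : 0 < d := Module.finrank_pos
  obtain ⟨hfield, hev⟩ := isField_adjoin σ hsimp
  have hσd : σ ^ (p ^ d - 1) = 1 := by
    haveI : Finite (Module.End (ZMod p) Z) :=
      Finite.of_injective (fun f => (f : Z → Z)) DFunLike.coe_injective
    letI := hfield.toField
    haveI := Fintype.ofFinite (Algebra.adjoin (ZMod p) {σ})
    obtain ⟨z₀, hz₀⟩ := exists_ne (0 : Z)
    have hc : Nat.card (Algebra.adjoin (ZMod p) {σ}) = p ^ d :=
      (Nat.card_eq_of_bijective _ (hev z₀ hz₀)).trans hcZ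
    have hne : (⟨σ, Algebra.subset_adjoin rfl⟩ : Algebra.adjoin (ZMod p) {σ}) ≠ 0 := by
      intro h
      have hσ0 : σ = 0 := congrArg Subtype.val h
      obtain ⟨z, hz⟩ := exists_ne (0 : Z)
      obtain ⟨b, hb⟩ := honto (ω * 1) (by simpa using hω0) z
      have h1 := hB 1 (ω⁻¹ * b)
      rw [hσ0, LinearMap.zero_apply, mul_inv_cancel_left₀ hω0, hb] at h1
      exact hz h1
    have h := FiniteField.pow_card_sub_one_eq_one _ hne
    rw [← Nat.card_eq_fintype_card, hc] at h
    simpa using congrArg Subtype.val h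
  set μ := ω ^ (p ^ d - 1) with hμ
  have hμ0 : μ ≠ 0 := pow_ne_zero _ hω0
  have hinv : ∀ a b, B (μ * a) (μ * b) = B a b := fun a b => by
    rw [hμ, ← pow_apply ω σ B hB, hσd, Module.End.one_apply]
  have hq : ∀ (q : (ZMod p)[X]) (a b : F), B (aeval μ⁻¹ q * a) b = B a (aeval μ q * b) := by
    intro q
    induction q using Polynomial.induction_on' with
    | add q r hq hr => intro a b; simp [add_mul, hq a b, hr a b]
    | monomial j c =>
      intro a b
      rw [aeval_monomial, aeval_monomial, mul_assoc, mul_assoc, ← Algebra.smul_def,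
        ← Algebra.smul_def, map_smul, LinearMap.smul_apply, map_smul]
      congr 1
      induction j generalizing a b with
      | zero => simp
      | succ j ih =>
        rw [pow_succ, pow_succ, mul_assoc, ih (μ⁻¹ * a) b, ← hinv (μ⁻¹ * a),
          mul_inv_cancel_left₀ hμ0, ← mul_assoc μ, ← pow_succ', pow_succ]
  have hroot : aeval μ⁻¹ (minpoly (ZMod p) μ) = 0 := by
    by_contra hne
    obtain ⟨z, hz⟩ := exists_ne (0 : Z)
    obtain ⟨b, hb⟩ := honto _ hne z
    have h := hq (minpoly (ZMod p) μ) 1 b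
    rw [minpoly.aeval, zero_mul, map_zero, mul_one, hb] at h
    exact hz h
  obtain ⟨τ, hτ⟩ := (isConjRoot_of_aeval_eq_zero (Algebra.IsIntegral.isIntegral μ) hroot).exists_algEquiv
  obtain ⟨j, hj⟩ := (FiniteField.bijective_frobeniusAlgEquivOfAlgebraic_pow (ZMod p) F).2 τ.symm
  have hμj : μ ^ (p ^ (j : ℕ)) = μ⁻¹ := by
    have h1 : τ.symm μ = μ⁻¹ := by rw [AlgEquiv.symm_apply_eq, hτ]
    rw [← hj] at h1
    simp only [AlgEquiv.coe_pow, FiniteField.coe_frobeniusAlgEquivOfAlgebraic_iterate,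
      ZMod.card] at h1
    exact h1
  have hp1 : μ ^ (p ^ (j : ℕ) + 1) = 1 := by rw [pow_succ, hμj, inv_mul_cancel₀ hμ0]
  obtain ⟨i, hi2, hi⟩ : ∃ i, 2 * i ≤ f ∧ μ ^ (p ^ i + 1) = 1 := by
    by_cases h2 : 2 * (j : ℕ) ≤ f
    · exact ⟨j, h2, hp1⟩
    · have hjf : (j : ℕ) < f := j.2
      refine ⟨f - j, by omega, ?_⟩
      have h := congrArg (fun x => x ^ p ^ (f - (j : ℕ))) hp1
      simp only [one_pow, ← pow_mul, add_mul, one_mul] at h
      rw [← pow_add, Nat.add_sub_cancel' hjf.le, ← hcF, pow_add, Nat.card_eq_fintype_card,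
        FiniteField.pow_card, mul_comm] at h
      rw [pow_succ]
      exact h
  have hdvd : p ^ f - 1 ∣ (p ^ d - 1) * (p ^ i + 1) := by
    rw [← hcF]
    exact order_generator ω hω (by rw [pow_mul]; exact hi) hω0
  obtain ⟨hf2, hdi⟩ := num hp.out.one_lt hdf hd0 hi2 hdvd
  exact ⟨i, by omega, by rw [hcF, hf2], hdi ▸ hσd⟩

include hω hB honto hZ in
/-- The power fixing the target. -/
theorem pow_eq_one [Nontrivial Z] (hω0 : ω ≠ 0) :
    ∃ n, 0 < n ∧ Nat.card F = p ^ (2 * n) ∧ σ ^ (p ^ n - 1) = 1 := by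
  classical
  haveI : Finite (Submodule (ZMod p) Z) :=
    Finite.of_injective (fun W => (W : Set Z)) SetLike.coe_injective
  -- every invariant proper submodule has a simple quotient above it
  have key : ∀ W₀ : Submodule (ZMod p) Z, (∀ w ∈ W₀, σ w ∈ W₀) → W₀ ≠ ⊤ →
      ∃ Q : Submodule (ZMod p) Z, W₀ ≤ Q ∧ Q ≠ ⊤ ∧ ∃ n, 0 < n ∧ Nat.card F = p ^ (2 * n) ∧
        ∀ z, (σ ^ (p ^ n - 1)) z - z ∈ Q := by
    intro W₀ hW₀ hne
    obtain ⟨Q, hQle, hQ⟩ := Finite.exists_le_maximal
      (p := fun Q : Submodule (ZMod p) Z => (∀ w ∈ Q, σ w ∈ Q) ∧ Q ≠ ⊤) ⟨hW₀, hne⟩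
    haveI : Finite (Z ⧸ Q) := Finite.of_surjective _ Q.mkQ_surjective
    haveI : Nontrivial (Z ⧸ Q) := Submodule.Quotient.nontrivial_iff.mpr hQ.prop.2
    set σQ : Module.End (ZMod p) (Z ⧸ Q) := Q.mapQ Q σ hQ.prop.1 with hσQ
    obtain ⟨n, hn0, hn, hσn⟩ := pow_eq_one_of_simple ω hω σQ (B.compr₂ Q.mkQ)
      (fun a b => by
        simp only [LinearMap.compr₂_apply, hB, hσQ, Submodule.mkQ_apply, Submodule.mapQ_apply])
      (fun a ha z => by
        obtain ⟨y, rfl⟩ := Q.mkQ_surjective z
        obtain ⟨b, rfl⟩ := honto a ha y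
        exact ⟨b, rfl⟩)
      (lt_of_le_of_lt (Nat.card_le_card_of_surjective _ Q.mkQ_surjective) hZ) hω0
      (fun W hW => by
        by_cases hWt : W = ⊤
        · exact Or.inr hWt
        · left
          have hle : Q ≤ W.comap Q.mkQ := fun z hz => by
            simp [(Submodule.Quotient.mk_eq_zero Q).mpr hz]
          have h := hQ.2 (y := W.comap Q.mkQ) ⟨fun z hz => ?_, fun htop => hWt ?_⟩ hle
          · refine eq_bot_iff.mpr fun z hz => ?_
            obtain ⟨y, rfl⟩ := Q.mkQ_surjective z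
            exact (Submodule.Quotient.mk_eq_zero Q).mpr (h hz)
          · have := hW _ hz
            simpa [hσQ, Submodule.mem_comap] using this
          · rw [← Submodule.map_comap_eq_of_surjective Q.mkQ_surjective W, htop,
              Submodule.map_top, Submodule.range_mkQ])
    refine ⟨Q, hQle, hQ.prop.2, n, hn0, hn, fun z => ?_⟩
    rw [← Submodule.Quotient.eq]
    have hpow : ∀ k z, (σQ ^ k) (Submodule.Quotient.mk z) = Submodule.Quotient.mk ((σ ^ k) z) := by
      intro k
      induction k with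
      | zero => intro z; simp
      | succ k ih =>
        intro z
        rw [pow_succ', pow_succ', Module.End.mul_apply, Module.End.mul_apply, ih, hσQ,
          Submodule.mapQ_apply]
    rw [← hpow, hσn, Module.End.one_apply]
  obtain ⟨-, -, -, n, hn0, hn, -⟩ := key ⊥ (fun w hw => by
    rw [(Submodule.mem_bot _).mp hw, map_zero]; exact zero_mem _) bot_ne_top
  refine ⟨n, hn0, hn, ?_⟩
  set τ := σ ^ (p ^ n - 1) with hτ
  have hN : σ ^ (Nat.card F - 1) = 1 := by
    refine LinearMap.ext fun z => ?_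
    obtain ⟨b, rfl⟩ := honto 1 one_ne_zero z
    rw [pow_apply ω σ B hB, Nat.card_eq_fintype_card, FiniteField.pow_card_sub_one_eq_one ω hω0]
    simp
  set D : Module.End (ZMod p) Z := τ - 1 with hD
  have hcσ : ∀ z, σ (D z) = D (σ z) := fun z => by
    simp only [hD, LinearMap.sub_apply, Module.End.one_apply, map_sub, hτ, ← Module.End.mul_apply]
    rw [(Commute.refl σ).pow_right (p ^ n - 1) |>.eq, one_mul]
  have hker : ∀ z, D (D z) = 0 → D z = 0 := by
    intro z hz
    have hτD : τ (D z) = D z := by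
      have h := hz
      rw [hD, LinearMap.sub_apply, Module.End.one_apply, sub_eq_zero] at h
      exact h
    have hit : ∀ k : ℕ, (τ ^ k) z = z + k • D z := by
      intro k
      induction k with
      | zero => simp
      | succ k ih =>
        rw [pow_succ', Module.End.mul_apply, ih, map_add, map_nsmul, hτD]
        have : τ z = z + D z := by simp [hD]
        rw [this, succ_nsmul]
        abel
    have h := hit (Nat.card F - 1)
    rw [hτ, ← pow_mul, mul_comm, pow_mul, hN, one_pow, Module.End.one_apply, eq_comm,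
      add_eq_left, ← Nat.cast_smul_eq_nsmul (ZMod p)] at h
    refine (smul_eq_zero.mp h).resolve_left ?_
    rw [hn, Nat.cast_sub (Nat.one_le_pow _ _ hp.out.pos), Nat.cast_pow, ZMod.natCast_self,
      zero_pow (by omega)]
    simp
  by_contra hne
  obtain ⟨Q, hle, hQ, n', -, hn', hmem⟩ := key (LinearMap.ker D) (fun w hw => by
      rw [LinearMap.mem_ker] at hw ⊢
      rw [← hcσ, hw, map_zero]) (fun h => hne (sub_eq_zero.mp (LinearMap.ker_eq_top.mp h)))
  have hnn : n' = n := by
    have := Nat.pow_right_injective hp.out.two_le (hn'.symm.trans hn)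
    omega
  subst hnn
  apply hQ
  have hsup : LinearMap.range D ⊔ LinearMap.ker D ≤ Q := by
    refine sup_le ?_ hle
    rintro _ ⟨z, rfl⟩
    exact hmem z
  refine eq_top_iff.mpr (le_trans (le_of_eq ?_) hsup)
  refine (Submodule.eq_top_of_disjoint _ _ ?_ ?_).symm
  · exact (LinearMap.finrank_range_add_finrank_ker D).ge
  · rw [Submodule.disjoint_def]
    rintro _ ⟨z, rfl⟩ hz
    exact hker z hz

end Field

/-- An equivariant map on `V × Z` into a small space vanishes. -/
theorem no_layer {V : Type*} [AddCommGroup V] [Module (ZMod p) V] [Finite V] [Nontrivial V]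
    (s : Module.End (ZMod p) V) (htr : ∀ v w : V, v ≠ 0 → w ≠ 0 → ∃ k : ℕ, (s ^ k) v = w)
    {Z Y : Type*} [AddCommGroup Z] [Module (ZMod p) Z] [Finite Z]
    [AddCommGroup Y] [Module (ZMod p) Y] [Finite Y]
    (σ : Module.End (ZMod p) Z) (ρ : Module.End (ZMod p) Y)
    (B : V →ₗ[ZMod p] V →ₗ[ZMod p] Z) (hB : ∀ a b, B (s a) (s b) = σ (B a b))
    (honto : ∀ a, a ≠ 0 → Function.Surjective (B a)) (hZ : Nat.card Z < Nat.card V)
    (T : V →ₗ[ZMod p] Z →ₗ[ZMod p] Y) (hT : ∀ a z, T (s a) (σ z) = ρ (T a z))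
    (hY : Nat.card Y < Nat.card V) (hs : Function.Injective s) : T = 0 := by
  classical
  rcases subsingleton_or_nontrivial Z with hZ1 | hZ1
  · exact LinearMap.ext fun a => LinearMap.ext fun z => by
      simp [Subsingleton.elim z 0]
  have hsimp : ∀ W : Submodule (ZMod p) V, (∀ w ∈ W, s w ∈ W) → W = ⊥ ∨ W = ⊤ := by
    intro W hW
    refine or_iff_not_imp_left.mpr fun hne => eq_top_iff.mpr fun w _ => ?_
    obtain ⟨v, hv, hv0⟩ := Submodule.exists_mem_ne_zero_of_ne_bot hne
    rcases eq_or_ne w 0 with rfl | hw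
    · exact zero_mem _
    · obtain ⟨k, rfl⟩ := htr v w hv0 hw
      clear hw
      induction k with
      | zero => simpa using hv
      | succ k ih => rw [pow_succ', Module.End.mul_apply]; exact hW _ (ih trivial)
  obtain ⟨hfield, hev⟩ := isField_adjoin s hsimp
  haveI : Finite (Module.End (ZMod p) V) :=
    Finite.of_injective (fun f => (f : V → V)) DFunLike.coe_injective
  set F := Algebra.adjoin (ZMod p) {s}
  letI := hfield.toField
  haveI := Fintype.ofFinite F
  obtain ⟨v₀, hv₀⟩ := exists_ne (0 : V)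
  let e : F ≃ₗ[ZMod p] V := LinearEquiv.ofBijective
    ({ toFun := fun a : F => (a : Module.End (ZMod p) V) v₀
       map_add' := fun _ _ => rfl
       map_smul' := fun _ _ => rfl } : F →ₗ[ZMod p] V) ⟨fun a b h => (hev v₀ hv₀).1 h, fun v => (hev v₀ hv₀).2 v⟩
  set ω : F := ⟨s, Algebra.subset_adjoin rfl⟩
  have heω : ∀ a : F, e (ω * a) = s (e a) := fun _ => rfl
  have hω0 : ω ≠ 0 := fun h => hv₀ (hs (by
    rw [map_zero]; exact LinearMap.congr_fun (congrArg Subtype.val h) v₀))
  have hω : ∀ a : F, a ≠ 0 → ∃ k : ℕ, ω ^ k = a := by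
    intro a ha
    obtain ⟨k, hk⟩ := htr v₀ (e a) hv₀ (by simpa using ha)
    refine ⟨k, e.injective ?_⟩
    rw [← hk]
    rfl
  have hcV : Nat.card F = Nat.card V := Nat.card_congr e.toEquiv
  set BF : F →ₗ[ZMod p] F →ₗ[ZMod p] Z := B.compl₁₂ e.toLinearMap e.toLinearMap
  obtain ⟨n, hn0, hn, hσn⟩ := pow_eq_one ω hω σ BF
    (fun a b => by simp only [BF, LinearMap.compl₁₂_apply, LinearEquiv.coe_coe, heω, hB])
    (fun a ha z => by
      obtain ⟨b, rfl⟩ := honto (e a) (by simpa using ha) z
      exact ⟨e.symm b, by simp [BF]⟩)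
    (hcV ▸ hZ) hω0
  have hTn : ∀ (k : ℕ) (a : F) z, T (e (ω ^ k * a)) ((σ ^ k) z) = (ρ ^ k) (T (e a) z) := by
    intro k
    induction k with
    | zero => intro a z; simp
    | succ k ih =>
      intro a z
      rw [pow_succ', pow_succ', pow_succ', Module.End.mul_apply, Module.End.mul_apply, mul_assoc,
        heω, hT, ih]
  refine LinearMap.ext fun v => LinearMap.ext fun z => ?_
  obtain ⟨a, rfl⟩ := e.surjective v
  have h := eq_zero_of_equivariant (n := n) hn.le (t := ω ^ (p ^ n - 1)) (pow_ne_zero _ hω0) ?_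
    (hcV ▸ hY) ((T.flip z).comp e.toLinearMap) (ρ ^ (p ^ n - 1)).toAddMonoidHom (fun b => by
      simp only [LinearMap.comp_apply, LinearMap.flip_apply, LinearEquiv.coe_coe,
        LinearMap.toAddMonoidHom_coe]
      conv_lhs => rw [show z = (σ ^ (p ^ n - 1)) z by rw [hσn]; rfl]
      rw [hTn])
  · exact LinearMap.congr_fun h a
  · intro j hj hj1
    have hd := Nat.le_of_dvd ?_ (order_generator ω hω (by rw [pow_mul]; exact hj1) hω0)
    · rw [hn, Nat.mul_comm 2 n, pow_mul] at hd
      have h2 : 1 < p ^ n := Nat.one_lt_pow hn0.ne' hp.out.one_lt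
      by_contra hlt
      obtain ⟨u, hu⟩ : ∃ u, p ^ n = u + 1 := ⟨p ^ n - 1, by omega⟩
      rw [hu] at hd hlt
      rw [Nat.add_sub_cancel] at hd
      have : (u + 1) ^ 2 = u * u + 2 * u + 1 := by ring
      rw [this] at hd
      have : u * j ≤ u * u := Nat.mul_le_mul_left u (by omega)
      omega
    · have h2 : 1 < p ^ n := Nat.one_lt_pow hn0.ne' hp.out.one_lt
      exact Nat.mul_pos (by omega) hj

/-- An equivariant linear map into a smaller space vanishes. -/
theorem small_map_eq_zero {V Y : Type*} [AddCommGroup V] [Module (ZMod p) V] [Finite V]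
    [AddCommGroup Y] [Module (ZMod p) Y] [Finite Y]
    (s : V → V) (htr : ∀ v w : V, v ≠ 0 → w ≠ 0 → ∃ k : ℕ, s^[k] v = w)
    (ρ : Y →+ Y) (L : V →ₗ[ZMod p] Y) (hL : ∀ a, L (s a) = ρ (L a))
    (hY : Nat.card Y < Nat.card V) : L = 0 := by
  refine LinearMap.ext fun w => ?_
  obtain ⟨v, hv0, hv⟩ : ∃ v, v ≠ 0 ∧ L v = 0 := by
    by_contra h
    push Not at h
    exact absurd (Nat.card_le_card_of_injective L ((injective_iff_map_eq_zero L).mpr
      fun v hv => by by_contra hv0; exact h v hv0 hv)) (not_le.mpr hY)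
  rcases eq_or_ne w 0 with rfl | hw
  · simp
  obtain ⟨k, rfl⟩ := htr v w hv0 hw
  clear hw
  induction k with
  | zero => simpa using hv
  | succ k ih => rw [Function.iterate_succ_apply', hL, ih]; simp

end CfsgLib.OneNonlinear.Layers
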