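import Cfsg.Agent.Lib.Char.OneNonlinear.Chars
import Cfsg.Agent.Lib.Char.OneNonlinear.Group

/-!
# An element seen by one nonlinear character: the group is solvable
-/

set_option autoImplicit false
set_option linter.all false

namespace CfsgLib.OneNonlinear

open CfsgLib.Char CfsgLib.CharDegree
open scoped commutatorElement

theorem isSolvable_of_one_nonlinear {G : Type*} [Group G] [Finite G] (g : G)
    (hg : g ∉ Subgroup.center G) (χ : Cfsg.IrrCharacter G)
    (hχ1 : Cfsg.charDegree (χ : G → ℂ) ≠ 1) (hχg : (χ : G → ℂ) g ≠ 0)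
    (hother : ∀ ψ : Cfsg.IrrCharacter G, Cfsg.charDegree (ψ : G → ℂ) ≠ 1 → ψ ≠ χ →
      (ψ : G → ℂ) g = 0) : Group.IsSolvable G := by
  haveI := kerSubgroup_normal χ
  refine Setup.isSolvable (K := kerSubgroup χ) (g := g) ⟨?_, ?_, ?_, ?_, ?_⟩
  · exact fun x hx => ker_le_commutator g hg χ hχ1 hχg hother (mem_kerSubgroup.mp hx)
  · exact mem_commutator g hg χ hχ1 hχg hother
  · exact fun h => not_isConj_of_ker g hg χ hχ1 hχg hother (mem_kerSubgroup.mp h) (IsConj.refl g)
  · intro x hx hxK
    have hx' : x ∈ (commutator G : Set G) := hx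
    rw [commutator_eq g hg χ hχ1 hχg hother] at hx'
    exact hx'.resolve_left fun h => hxK (mem_kerSubgroup.mpr h)
  · exact fun z hz => mem_of_central_mod_ker g hg χ hχ1 hχg hother fun x => mem_kerSubgroup.mp (hz x)

end CfsgLib.OneNonlinear
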